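import Mathlib

/-!
Homocyclic 2-groups of rank two.
-/

set_option autoImplicit false
set_option linter.style.haveILetI false

namespace CfsgLib.MinNonCA

open Subgroup

universe u

variable {S : Type u} [Finite S]

/-- An abelian 2-group with three involutions, each a power of maximal 2-power exponent, is
`Z/2^m × Z/2^m`. -/
theorem nonempty_homocyclic_aux [CommGroup S] {m : ℕ} (hm : 1 ≤ m) {x y : S} (hexp : ∀ s : S, s ^ 2 ^ m = 1)
    (hx : x ^ 2 ^ (m - 1) ≠ 1) (hy : y ^ 2 ^ (m - 1) ≠ 1)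
    (hxy : x ^ 2 ^ (m - 1) ≠ y ^ 2 ^ (m - 1))
    (hE : ∀ e : S, e * e = 1 → e = 1 ∨ e = x ^ 2 ^ (m - 1) ∨ e = y ^ 2 ^ (m - 1) ∨
      e = x ^ 2 ^ (m - 1) * y ^ 2 ^ (m - 1)) :
    Nonempty (S ≃* Multiplicative (ZMod (2 ^ m) × ZMod (2 ^ m))) := by
  classical
  haveI : NeZero (2 ^ m) := ⟨by positivity⟩
  obtain ⟨k, rfl⟩ : ∃ k, m = k + 1 := ⟨m - 1, by omega⟩
  rw [Nat.add_sub_cancel] at hx hy hxy hE
  let px : ZMod (2 ^ (k + 1)) →+ Additive S :=
    ZMod.lift _ ⟨zmultiplesHom (Additive S) (Additive.ofMul x), by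
      show ((2 ^ (k + 1) : ℕ) : ℤ) • Additive.ofMul x = 0
      rw [natCast_zsmul, ← ofMul_pow, hexp x, ofMul_one]⟩
  let py : ZMod (2 ^ (k + 1)) →+ Additive S :=
    ZMod.lift _ ⟨zmultiplesHom (Additive S) (Additive.ofMul y), by
      show ((2 ^ (k + 1) : ℕ) : ℤ) • Additive.ofMul y = 0
      rw [natCast_zsmul, ← ofMul_pow, hexp y, ofMul_one]⟩
  let φ : Multiplicative (ZMod (2 ^ (k + 1)) × ZMod (2 ^ (k + 1))) →* S :=
    AddMonoidHom.toMultiplicativeLeft (AddMonoidHom.coprod px py)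
  have hpx : ∀ a : ℕ, (px (a : ZMod (2 ^ (k + 1)))).toMul = x ^ a := fun a => by
    rw [show (a : ZMod (2 ^ (k + 1))) = ((a : ℤ) : ZMod (2 ^ (k + 1))) by norm_cast, ZMod.lift_coe]
    simp
  have hpy : ∀ a : ℕ, (py (a : ZMod (2 ^ (k + 1)))).toMul = y ^ a := fun a => by
    rw [show (a : ZMod (2 ^ (k + 1))) = ((a : ℤ) : ZMod (2 ^ (k + 1))) by norm_cast, ZMod.lift_coe]
    simp
  have hφ : ∀ a b : ℕ, φ (Multiplicative.ofAdd ((a : ZMod (2 ^ (k + 1))), (b : ZMod (2 ^ (k + 1))))) =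
      x ^ a * y ^ b := fun a b => by
    rw [← hpx, ← hpy]
    rfl
  have hsur : ∀ j : ℕ, j ≤ k + 1 → ∀ s : S, s ^ 2 ^ j = 1 → ∃ a b : ℕ, s = x ^ a * y ^ b := by
    intro j
    induction j with
    | zero =>
      intro _ s hs
      rw [pow_zero, pow_one] at hs
      exact ⟨0, 0, by simp [hs]⟩
    | succ j ih =>
      intro hj s hs
      obtain ⟨a, b, e⟩ : ∃ a b : ℕ, s ^ 2 ^ j = (x ^ a * y ^ b) ^ 2 ^ j := by
        have hpow : ∀ z : S, (z ^ 2 ^ (k - j)) ^ 2 ^ j = z ^ 2 ^ k := fun z => by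
          rw [← pow_mul, ← pow_add, Nat.sub_add_cancel (by omega)]
        rcases hE (s ^ 2 ^ j) (by rw [← pow_two, ← pow_mul, ← pow_succ, hs]) with h | h | h | h
        · exact ⟨0, 0, by simp [h]⟩
        · exact ⟨2 ^ (k - j), 0, by simp [h, hpow]⟩
        · exact ⟨0, 2 ^ (k - j), by simp [h, hpow]⟩
        · exact ⟨2 ^ (k - j), 2 ^ (k - j), by rw [h, mul_pow, hpow, hpow]⟩
      obtain ⟨c, d, hcd⟩ := ih (by omega) (s * (x ^ a * y ^ b)⁻¹) (by
        rw [mul_pow, inv_pow, e, mul_inv_cancel])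
      refine ⟨c + a, d + b, ?_⟩
      calc s = s * (x ^ a * y ^ b)⁻¹ * (x ^ a * y ^ b) := by group
        _ = x ^ c * y ^ d * (x ^ a * y ^ b) := by rw [hcd]
        _ = x ^ (c + a) * y ^ (d + b) := by rw [pow_add, pow_add, mul_mul_mul_comm]
  have hinj : Function.Injective φ := by
    refine (injective_iff_map_eq_one φ).2 fun v hv => ?_
    by_contra hne
    -- an element of order two in the kernel
    have hv2 : ∀ w : Multiplicative (ZMod (2 ^ (k + 1)) × ZMod (2 ^ (k + 1))), w ^ 2 ^ (k + 1) = 1 := by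
      intro w
      refine Multiplicative.toAdd.injective ?_
      rw [toAdd_pow, toAdd_one]
      exact Prod.ext (ZModModule.char_nsmul_eq_zero _ _) (ZModModule.char_nsmul_eq_zero _ _)
    obtain ⟨j, -, hj⟩ := (Nat.dvd_prime_pow Nat.prime_two).1 (orderOf_dvd_of_pow_eq_one (hv2 v))
    obtain ⟨i, rfl⟩ : ∃ i, j = i + 1 := by
      refine Nat.exists_eq_succ_of_ne_zero fun h0 => hne ?_
      rw [h0, pow_zero] at hj
      exact orderOf_eq_one_iff.1 hj
    set w := v ^ 2 ^ i with hw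
    have hwo : orderOf w = 2 := by
      rw [hw, orderOf_pow, hj, Nat.gcd_eq_right (pow_dvd_pow 2 (by omega)), pow_succ,
        Nat.mul_div_cancel_left _ (by positivity)]
    have hw1 : φ w = 1 := by rw [hw, map_pow, hv, one_pow]
    obtain ⟨⟨a, b⟩, hab⟩ := Multiplicative.ofAdd.surjective w
    rw [← hab] at hwo hw1
    have h2 : (2 : ℕ) • (a, b) = (0 : ZMod (2 ^ (k + 1)) × ZMod (2 ^ (k + 1))) := by
      have := pow_orderOf_eq_one (Multiplicative.ofAdd (a, b))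
      rw [hwo] at this
      simpa using congrArg Multiplicative.toAdd this
    have hhalf : ∀ c : ZMod (2 ^ (k + 1)), (2 : ℕ) • c = 0 → ∃ ε : ℕ, ε ≤ 1 ∧ c = ((ε * 2 ^ k : ℕ) : ZMod (2 ^ (k + 1))) := by
      intro c hc
      have hlt := ZMod.val_lt c
      have hdvd : 2 ^ (k + 1) ∣ 2 * c.val := by
        rw [← ZMod.natCast_eq_zero_iff, Nat.cast_mul, ZMod.natCast_zmod_val]
        simpa [nsmul_eq_mul] using hc
      obtain ⟨ε, hε⟩ := Nat.dvd_of_mul_dvd_mul_left two_pos ((pow_succ' 2 k).symm.dvd.trans hdvd)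
      refine ⟨ε, ?_, by rw [mul_comm, ← hε, ZMod.natCast_zmod_val]⟩
      by_contra h2
      have : 2 ^ k * 2 ≤ c.val := hε ▸ Nat.mul_le_mul le_rfl (by omega)
      have h4 : 2 ^ k * 2 = 2 ^ (k + 1) := (pow_succ 2 k).symm
      omega
    obtain ⟨ε, hε, rfl⟩ := hhalf a (congrArg Prod.fst h2)
    obtain ⟨δ, hδ, rfl⟩ := hhalf b (congrArg Prod.snd h2)
    rw [hφ, mul_comm ε, mul_comm δ, pow_mul, pow_mul] at hw1
    rcases Nat.le_one_iff_eq_zero_or_eq_one.1 hε with rfl | rfl <;>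
      rcases Nat.le_one_iff_eq_zero_or_eq_one.1 hδ with rfl | rfl <;>
      simp only [pow_zero, pow_one, one_mul, mul_one] at hw1
    · simp [Prod.mk_zero_zero] at hwo
    · exact hy hw1
    · exact hx hw1
    · refine hxy (mul_right_cancel (b := y ^ 2 ^ k) ?_)
      rw [hw1, ← pow_add, ← two_mul, ← pow_succ', hexp]
  exact ⟨(MulEquiv.ofBijective φ ⟨hinj, fun s => by
    obtain ⟨a, b, rfl⟩ := hsur (k + 1) le_rfl s (hexp s)
    exact ⟨_, hφ a b⟩⟩).symm⟩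

/-- The same for a group with commutative multiplication. -/
theorem nonempty_homocyclic [Group S] (hab : ∀ a b : S, a * b = b * a) {m : ℕ} (hm : 1 ≤ m)
    {x y : S} (hexp : ∀ s : S, s ^ 2 ^ m = 1)
    (hx : x ^ 2 ^ (m - 1) ≠ 1) (hy : y ^ 2 ^ (m - 1) ≠ 1)
    (hxy : x ^ 2 ^ (m - 1) ≠ y ^ 2 ^ (m - 1))
    (hE : ∀ e : S, e * e = 1 → e = 1 ∨ e = x ^ 2 ^ (m - 1) ∨ e = y ^ 2 ^ (m - 1) ∨
      e = x ^ 2 ^ (m - 1) * y ^ 2 ^ (m - 1)) :
    Nonempty (S ≃* Multiplicative (ZMod (2 ^ m) × ZMod (2 ^ m))) :=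
  @nonempty_homocyclic_aux S _ { (inferInstance : Group S) with mul_comm := hab } m hm x y hexp
    hx hy hxy hE

end CfsgLib.MinNonCA
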