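import Cfsg.Agent.Lib.MinNonCA.Basic
import Cfsg.Agent.Lib.CIT.Identify
import Cfsg.Agent.Lib.CIT.SuzukiIso
import Cfsg.Agent.Lib.CoreKill.Applications
import Cfsg.Agent.Lib.PCore.Basic
import Cfsg.Agent.S1221

/-!
Simple groups in which the centraliser of every involution is abelian are `PSL₂(2ⁿ)`.
-/

set_option autoImplicit false
set_option linter.style.haveILetI false

namespace CfsgLib.MinNonCA

open Subgroup CfsgLib.Involutions

universe u

variable {G : Type u} [Group G] [Finite G]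

/-- Odd-order elements of an abelian subgroup form a subgroup. -/
theorem exists_odd_part_of_abelian {A : Subgroup G} (hA : ∀ a ∈ A, ∀ b ∈ A, Commute a b) :
    ∃ O : Subgroup G, ∀ x, x ∈ O ↔ x ∈ A ∧ Odd (orderOf x) :=
  ⟨{ carrier := {x | x ∈ A ∧ Odd (orderOf x)}
     one_mem' := ⟨one_mem _, by rw [orderOf_one]; exact odd_one⟩
     mul_mem' := fun {x y} hx hy => ⟨mul_mem hx.1 hy.1,
       (hx.2.mul hy.2).of_dvd_nat ((hA x hx.1 y hy.1).orderOf_mul_dvd_mul_orderOf)⟩
     inv_mem' := fun {x} hx => ⟨inv_mem hx.1, by rw [orderOf_inv]; exact hx.2⟩ }, fun _ => Iff.rfl⟩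

theorem psl_two_even_of_abelian_centralizers [IsSimpleGroup G] (hns : ¬ Group.IsSolvable G)
    (hC : ∀ t a b : G, orderOf t = 2 → Commute t a → Commute t b → Commute a b) :
    ∃ (F : Type) (_ : Field F) (_ : Fintype F), (∃ n : ℕ, 2 ≤ n ∧ Fintype.card F = 2 ^ n) ∧
      Nonempty (G ≃* Matrix.ProjectiveSpecialLinearGroup (Fin 2) F) := by
  classical
  haveI : Fact (Nat.Prime 2) := ⟨Nat.prime_two⟩
  obtain ⟨S⟩ : Nonempty (Sylow 2 G) := inferInstance
  have h2 : 2 ∣ Nat.card G := by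
    by_contra h2
    exact hns (CfsgLib.PF.oddSolvable G (Nat.odd_iff.2 (by omega)))
  have h2S := S.dvd_card_of_dvd_card h2
  haveI : Nontrivial (S : Subgroup G) := Finite.one_lt_card_iff_nontrivial.1 (by
    have := Nat.le_of_dvd Nat.card_pos h2S; omega)
  haveI := S.2.center_nontrivial
  have h2Z : 2 ∣ Nat.card (center (S : Subgroup G)) := by
    obtain ⟨k, hk⟩ := (S.2.to_subgroup (center (S : Subgroup G))).exists_card_eq
    rw [hk]
    refine dvd_pow_self 2 fun h0 => ?_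
    rw [h0, pow_zero] at hk
    have := Finite.one_lt_card (α := center (S : Subgroup G))
    omega
  obtain ⟨z, hz⟩ := exists_prime_orderOf_dvd_card' 2 h2Z
  set t := ((z : (S : Subgroup G)) : G) with ht0
  have ht : orderOf t = 2 := by rw [ht0, Subgroup.orderOf_coe, Subgroup.orderOf_coe, hz]
  have htS : ∀ s ∈ (S : Subgroup G), Commute t s := fun s hs =>
    (congrArg Subtype.val (mem_center_iff.1 z.2 ⟨s, hs⟩)).symm
  set A := centralizer ({t} : Set G) with hA
  have hmem : ∀ a, a ∈ A ↔ Commute t a := fun a =>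
    ⟨fun h => (mem_centralizer_singleton_iff.1 h).symm,
      fun h => mem_centralizer_singleton_iff.2 h.eq.symm⟩
  have hab : ∀ a ∈ A, ∀ b ∈ A, Commute a b := fun a ha b hb =>
    hC t a b ht ((hmem a).1 ha) ((hmem b).1 hb)
  have htA : t ∈ A := (hmem t).2 (Commute.refl t)
  -- the centraliser of an involution of `A` is `A`
  have hinvA : ∀ s ∈ A, orderOf s = 2 → ∀ c, Commute c s → c ∈ A := fun s hs hs2 c hc =>
    (hmem c).2 (hC s t c hs2 (hab s hs t htA) hc.symm)
  set M := normalizer (A : Set G) with hM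
  have hAM : A ≤ M := le_normalizer
  have hmemM : ∀ g x, g ∈ M → (x ∈ A ↔ g * x * g⁻¹ ∈ A) := fun g x hg =>
    mem_normalizer_iff.1 hg x
  have hinvM : ∀ i ∈ M, orderOf i = 2 → i ∈ A := by
    intro i hi hi2
    let X := {s : G // s ∈ A ∧ s * s = 1}
    have hcl : ∀ g ∈ zpowers i, ∀ s : X, g * (s : G) * g⁻¹ ∈ A ∧
        g * (s : G) * g⁻¹ * (g * (s : G) * g⁻¹) = 1 := fun g hg s =>
      ⟨(hmemM g s (zpowers_le.2 hi hg)).1 s.2.1, by
        rw [show g * (s : G) * g⁻¹ * (g * (s : G) * g⁻¹) = g * ((s : G) * s) * g⁻¹ by group, s.2.2]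
        group⟩
    letI : MulAction (zpowers i) X :=
      { smul := fun g s => ⟨(g : G) * s * (g : G)⁻¹, hcl g g.2 s⟩
        one_smul := fun s => Subtype.ext (by show (1 : G) * s * (1 : G)⁻¹ = s; simp)
        mul_smul := fun g k s => Subtype.ext (by
          show ((g : G) * k) * s * ((g : G) * k)⁻¹ = g * (k * s * (k : G)⁻¹) * (g : G)⁻¹
          group) }
    have hp : IsPGroup 2 (zpowers i) :=
      IsPGroup.of_card (n := 1) (by rw [Nat.card_zpowers, hi2, pow_one])
    let E : Subgroup G :=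
      { carrier := {s | s ∈ A ∧ s * s = 1}
        one_mem' := ⟨one_mem _, one_mul 1⟩
        mul_mem' := fun {x y} hx hy => ⟨mul_mem hx.1 hy.1, by
          rw [(hab y hy.1 x hx.1).mul_mul_mul_comm, hx.2, hy.2, one_mul]⟩
        inv_mem' := fun {x} hx => ⟨inv_mem hx.1, by rw [← mul_inv_rev, hx.2, inv_one]⟩ }
    have h2X : 2 ∣ Nat.card X := by
      change 2 ∣ Nat.card E
      rw [← ht]
      exact E.orderOf_dvd_natCard ⟨htA, by rw [← pow_two, ← ht, pow_orderOf_eq_one]⟩
    let one : X := ⟨1, one_mem _, one_mul 1⟩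
    have h1 : one ∈ MulAction.fixedPoints (zpowers i) X := fun g =>
      Subtype.ext (show (g : G) * 1 * (g : G)⁻¹ = 1 by group)
    obtain ⟨s, hs, hs1⟩ := hp.exists_fixed_point_of_prime_dvd_card_of_fixed_point X h2X h1
    have hne : (s : G) ≠ 1 := fun e => hs1 (Subtype.ext e.symm)
    exact hinvA s s.2.1 (orderOf_eq_two_iff_mul.2 ⟨hne, s.2.2⟩) i
      (mul_inv_eq_iff_eq_mul.1 (congrArg Subtype.val (hs ⟨i, mem_zpowers i⟩) :))
  have hAne : A ≠ ⊥ := fun h => by
    rw [h, mem_bot] at htA; rw [htA, orderOf_one] at ht; omega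
  have hMtop : M ≠ ⊤ := fun h => by
    haveI : A.Normal := normalizer_eq_top_iff.1 h
    rcases IsSimpleGroup.eq_bot_or_eq_top_of_normal A inferInstance with hb | htop
    · exact hAne hb
    · exact hns (Group.isSolvable_of_comm fun a b => (hab a (htop ▸ mem_top a) b (htop ▸ mem_top b)).eq)
  have hconj : ∀ g : G, ∀ s ∈ A, orderOf s = 2 → g⁻¹ * s * g ∈ A → g ∈ M := by
    intro g s hs hs2 hgs
    have hgs2 : orderOf (g⁻¹ * s * g) = 2 := by simpa using (orderOf_conj_eq g⁻¹ s).trans hs2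
    refine mem_normalizer_iff''.2 fun a => ?_
    constructor
    · intro ha
      refine hinvA _ hgs hgs2 _ ?_
      have := (hab a ha s hs).map (MulAut.conj g⁻¹).toMonoidHom
      simpa [mul_assoc] using this
    · intro ha
      refine hinvA _ hs hs2 _ ?_
      have := (hab _ ha _ hgs).map (MulAut.conj g).toMonoidHom
      simpa [mul_assoc] using this
  have hse : Cfsg.IsStronglyEmbedded M := by
    refine isStronglyEmbedded_iff.2 ⟨hMtop, even_iff_two_dvd.2 (ht ▸ M.orderOf_dvd_natCard (hAM htA)),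
      fun g hg s hsM hs2 hgs => hg ?_⟩
    exact hconj g s (hinvM s hsM hs2) hs2
      (hinvM _ hgs (by simpa using (orderOf_conj_eq g⁻¹ s).trans hs2))
  -- `A` is a 2-group
  obtain ⟨O, hO⟩ := exists_odd_part_of_abelian hab
  have hA2 : IsPGroup 2 A := by
    intro x
    obtain ⟨k, m, hm, hord⟩ :=
      Nat.exists_eq_pow_mul_and_not_dvd (orderOf_pos (x : G)).ne' 2 (by norm_num)
    refine ⟨k, Subtype.ext ?_⟩
    have hxO : (x : G) ^ 2 ^ k ∈ O := (hO _).2 ⟨pow_mem x.2 _, by
      rw [orderOf_pow, hord, Nat.gcd_mul_right_left, Nat.mul_div_cancel_left _ (pow_pos two_pos k)]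
      exact Nat.odd_iff.2 (by omega)⟩
    have hOM : (O.subgroupOf M).Normal := ⟨fun a ha g => by
      have ha' := (hO _).1 (mem_subgroupOf.1 ha)
      refine mem_subgroupOf.2 ((hO _).2 ?_)
      simp only [Subgroup.coe_mul, Subgroup.coe_inv]
      exact ⟨(hmemM g a g.2).1 ha'.1, by rw [orderOf_conj_eq]; exact ha'.2⟩⟩
    have hOle : O ≤ M := fun a ha => hAM ((hO a).1 ha).1
    have hodd : Odd (Nat.card (O.subgroupOf M)) := by
      rw [← Nat.not_even_iff_odd, even_iff_two_dvd]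
      intro h
      obtain ⟨a, ha⟩ := exists_prime_orderOf_dvd_card' 2 h
      have hodd' := ((hO _).1 (mem_subgroupOf.1 a.2)).2
      rw [Subgroup.orderOf_coe, Subgroup.orderOf_coe, ha] at hodd'
      exact absurd hodd' (by decide)
    have hle : (O.subgroupOf M).map M.subtype ≤ Cfsg.oddCore G :=
      (Subgroup.map_mono (CfsgLib.PCore.le_pPrimeCore hOM (Nat.coprime_two_right.2 hodd))).trans
        (Cfsg.Agent.S1221.result M hse)
    rw [CfsgLib.CoreKill.oddCore_eq_bot_of_simple ht] at hle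
    exact mem_bot.1 (hle ⟨⟨_, hOle hxO⟩, hxO, rfl⟩)
  -- powers that are involutions
  have hpow : ∀ x ∈ A, x ≠ 1 → ∃ j : ℕ, orderOf (x ^ j) = 2 := by
    intro x hx hx1
    refine ⟨orderOf x / 2, orderOf_pow_orderOf_div (orderOf_pos x).ne' ?_⟩
    obtain ⟨k, hk⟩ := hA2 ⟨x, hx⟩
    obtain ⟨j, -, hj⟩ := (Nat.dvd_prime_pow Nat.prime_two).1
      (orderOf_dvd_of_pow_eq_one (congrArg Subtype.val hk : x ^ 2 ^ k = 1))
    rw [hj]
    refine dvd_pow_self 2 fun h0 => hx1 ?_
    rw [h0, pow_zero] at hj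
    exact orderOf_eq_one_iff.1 hj
  have hnil : Group.IsNilpotent A := hA2.isNilpotent
  have hyp : CfsgLib.CIT.TI.Hyp M A := by
    refine ⟨hse, hAM, le_rfl, hnil, hinvM, fun g x hx hx1 hgx => ?_, fun x hx hx1 c hc => ?_, ?_⟩
    · obtain ⟨j, hj⟩ := hpow x hx hx1
      refine hconj g (x ^ j) (pow_mem hx j) hj ?_
      have := pow_mem hgx j
      rwa [show (g⁻¹ * x * g) ^ j = g⁻¹ * x ^ j * g by simpa using (conj_pow (a := g⁻¹) (b := x) (i := j))] at this
    · obtain ⟨j, hj⟩ := hpow x hx hx1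
      exact hinvA _ (pow_mem hx j) hj c (hc.pow_right j)
    · by_contra hmany
      -- a unique involution gives a normal 2-complement
      have hAS : (S : Subgroup G) = A :=
        (S.3 hA2 fun s hs => (hmem s).2 (htS s hs)).symm
      obtain ⟨a, ha, b, hb, hne⟩ := exists_noncommute_normalizer hns S
      rw [hAS] at ha hb
      have hfix : ∀ g ∈ M, g ∈ A := fun g hg => by
        have hgt : g * t * g⁻¹ = t := by
          by_contra hgt
          exact hmany ⟨_, _, hAM ((hmemM g t hg).1 htA), hAM htA,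
            (orderOf_conj_eq g t).trans ht, ht, hgt⟩
        exact (hmem g).2 (mul_inv_eq_iff_eq_mul.1 hgt).symm
      exact hne (hab a (hfix a ha) b (hfix b hb))
  rcases CfsgLib.CIT.TI.shapeAny_of_hyp hyp with hev | ⟨hs, -⟩ | ⟨-, hna⟩
  · obtain ⟨-, F, hF, hFt, hn, hi⟩ := hev
    exact ⟨F, hF, hFt, hn, hi⟩
  · obtain ⟨u, v, huv⟩ := CfsgLib.CIT.TI.suzuki_nonabelian hyp hs
    exact absurd (Subtype.ext (hab u u.2 v v.2).eq) huv
  · exact absurd ⟨⟨fun a b => Subtype.ext (hab a ((hmem a).2 (htS a a.2)) b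
      ((hmem b).2 (htS b b.2))).eq⟩⟩ (hna S)

end CfsgLib.MinNonCA
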