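import Cfsg.Agent.Lib.MinNonCA.Basic
import Cfsg.Agent.Lib.Solvable.EigenChain
import Cfsg.Agent.Lib.Techniques.JeClassTwo
import Cfsg.Agent.Lib.PSLTwoSolv.Groups

/-!
Perfect groups with all proper subgroups CA: fixed points of a 2-element on a normal p-subgroup
of the solvable radical.
-/

set_option autoImplicit false
set_option linter.style.haveILetI false
set_option linter.unusedSectionVars false

namespace CfsgLib.MinNonCA

open Subgroup

universe u

variable {G : Type u} [Group G] [Finite G]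

/-- An element with `τ x τ⁻¹ = x z`, `z` fixed by `τ` and of order prime to that of `τ`, is
fixed. -/
theorem commute_of_step {τ x z : G} {m p : ℕ} (hp : p.Prime) (hp2 : p ≠ 2)
    (hτ : τ ^ 2 ^ m = 1) (hz : Commute τ z) (hzp : ∃ j, z ^ p ^ j = 1)
    (hx : τ * x * τ⁻¹ = x * z) : Commute τ x := by
  have key : ∀ k : ℕ, τ ^ k * x * (τ ^ k)⁻¹ = x * z ^ k := by
    intro k
    induction k with
    | zero => simp
    | succ k ih =>
      calc τ ^ (k + 1) * x * (τ ^ (k + 1))⁻¹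
          = τ * (τ ^ k * x * (τ ^ k)⁻¹) * τ⁻¹ := by rw [pow_succ']; group
        _ = (τ * x * τ⁻¹) * (τ * z ^ k * τ⁻¹) := by rw [ih]; group
        _ = x * z * z ^ k := by rw [(hz.pow_right k).eq, mul_inv_cancel_right, hx]
        _ = x * z ^ (k + 1) := by rw [pow_succ', mul_assoc]
  have h1 := key (2 ^ m)
  rw [hτ, inv_one, one_mul, mul_one, left_eq_mul] at h1
  obtain ⟨j, hj⟩ := hzp
  have hz1 : z = 1 := orderOf_eq_one_iff.1 (Nat.eq_one_of_dvd_coprimes
    (((Nat.coprime_primes Nat.prime_two hp).2 (Ne.symm hp2)).pow m j)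
    (orderOf_dvd_of_pow_eq_one h1) (orderOf_dvd_of_pow_eq_one hj))
  rw [hz1, mul_one, mul_inv_eq_iff_eq_mul] at hx
  exact hx

/-- A 2-element in each coset that is an involution. -/
theorem exists_two_lift {R : Subgroup G} [R.Normal] {x : G ⧸ R} (hx : x * x = 1) (g : G)
    (hg : (g : G ⧸ R) = x) : ∃ k m : ℕ, (g ^ k) ^ 2 ^ m = 1 ∧ ((g ^ k : G) : G ⧸ R) = x := by
  obtain ⟨m, k, hk, hord⟩ :=
    Nat.exists_eq_pow_mul_and_not_dvd (orderOf_pos g).ne' 2 (by norm_num)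
  refine ⟨k, m, ?_, ?_⟩
  · rw [← pow_mul, mul_comm, ← hord, pow_orderOf_eq_one]
  · obtain ⟨j, hj⟩ : Odd k := Nat.odd_iff.2 (by omega)
    rw [QuotientGroup.mk_pow, hg, hj, pow_succ, pow_mul, pow_two, hx, one_pow, one_mul]

variable {R : Subgroup G} [R.Normal]

/-- In a simple quotient, a subgroup containing the kernel and the lifts of all involutions is
everything. -/
theorem eq_top_of_involutions [IsSimpleGroup (G ⧸ R)] {τ₀ : G ⧸ R} (hτ₀ : orderOf τ₀ = 2)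
    {C : Subgroup G} (hR : R ≤ C)
    (hC : ∀ g : G, ((g : G) : G ⧸ R) * g = 1 → g ∈ C) : C = ⊤ := by
  let N : Subgroup (G ⧸ R) := Subgroup.normalClosure {x | x * x = 1}
  have hN : N.Normal := Subgroup.normalClosure_normal
  have hτN : τ₀ ∈ N := subset_normalClosure (by
    show τ₀ * τ₀ = 1
    rw [← pow_two, ← hτ₀, pow_orderOf_eq_one])
  have hNtop : N = ⊤ := (IsSimpleGroup.eq_bot_or_eq_top_of_normal N hN).resolve_left fun h => by
    rw [h, mem_bot] at hτN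
    rw [hτN, orderOf_one] at hτ₀
    omega
  have hle : N ≤ C.map (QuotientGroup.mk' R) := (closure_le _).2 fun x hx => by
    obtain ⟨a, ha, hax⟩ := Group.mem_conjugatesOfSet_iff.1 hx
    obtain ⟨g, rfl⟩ := isConj_iff.1 hax
    change a * a = 1 at ha
    obtain ⟨y, hy⟩ := QuotientGroup.mk_surjective (g * a * g⁻¹)
    refine ⟨y, hC y ?_, hy⟩
    rw [hy, show g * a * g⁻¹ * (g * a * g⁻¹) = g * (a * a) * g⁻¹ by group, ha]; group
  have h2 := congrArg (Subgroup.comap (QuotientGroup.mk' R))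
    (top_le_iff.1 (hNtop ▸ hle) : C.map (QuotientGroup.mk' R) = ⊤)
  rwa [comap_map_eq_self (by rw [QuotientGroup.ker_mk']; exact hR), comap_top] at h2

/-- The setting: `R` is a proper normal solvable subgroup with simple nonabelian quotient and `P`
a normal p-subgroup in it, central modulo `Z(G)` for `R`. -/
structure Setting (R P : Subgroup G) (p : ℕ) [R.Normal] : Prop where
  pca : PCA G
  simple : IsSimpleGroup (G ⧸ R)
  nsolv : ¬ Group.IsSolvable (G ⧸ R)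
  solv : Group.IsSolvable R
  prime : p.Prime
  pgroup : IsPGroup p P
  normal : P.Normal
  le : P ≤ R
  cen : ∀ g : G, (∀ y ∈ P, g * y * g⁻¹ * y⁻¹ ∈ center G) → g ∈ R
  comm : ∀ y ∈ P, ∀ r ∈ R, r * y * r⁻¹ * y⁻¹ ∈ center G

variable {P : Subgroup G} {p : ℕ} (h : Setting R P p)
include h

theorem Setting.exists_involution : ∃ τ : G ⧸ R, orderOf τ = 2 := by
  haveI : Fact (Nat.Prime 2) := ⟨Nat.prime_two⟩
  refine exists_prime_orderOf_dvd_card' 2 ?_
  by_contra hodd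
  exact h.nsolv (CfsgLib.PF.oddSolvable _ (Nat.odd_iff.2 (by omega)))

/-- No 2-element outside `R` which is an involution mod `R` fixes a noncentral element of `P`,
if `P` is abelian or `p` is odd. -/
theorem Setting.not_fixed (hp : (∀ a ∈ P, ∀ b ∈ P, Commute a b) ∨ p ≠ 2) {τ u : G} {m : ℕ}
    (hτ : τ ^ 2 ^ m = 1) (hτR : τ ∉ R) (hτ2 : (τ : G ⧸ R) * τ = 1) (hu : u ∈ P)
    (hfix : Commute τ u) : u ∈ center G := by
  haveI := h.normal
  haveI := h.simple
  haveI := h.solv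
  obtain ⟨a, ha, b, hb, hua, hub, hab⟩ : ∃ a ∈ P ⊔ zpowers τ, ∃ b ∈ P ⊔ zpowers τ,
      Commute u a ∧ Commute u b ∧ ¬ Commute a b := by
    by_contra! hcon
    refine hτR (h.cen τ fun y hy => ?_)
    suffices Commute τ y by
      rw [this.eq, mul_inv_cancel_right, mul_inv_cancel]; exact one_mem _
    have hτU : ∀ c ∈ P, Commute u c → Commute τ c := fun c hc huc =>
      hcon τ (mem_sup_right (mem_zpowers τ)) c (mem_sup_left hc) hfix.symm huc
    rcases hp with hab | hp2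
    · exact hτU y hy (hab u hu y hy)
    -- `p` odd: `y⁻¹ τ y τ⁻¹` centralises the centraliser of `u` in `P`
    set w := y⁻¹ * (τ * y * τ⁻¹) with hw
    have hwP : w ∈ P := mul_mem (inv_mem hy) (h.normal.conj_mem y hy τ)
    have hwc : ∀ c ∈ P, Commute u c → Commute w c := by
      intro c hc huc
      have hτc := hτU c hc huc
      have hz : y * c * y⁻¹ * c⁻¹ ∈ center G := h.comm c hc y (h.le hy)
      set z := y * c * y⁻¹ * c⁻¹ with hzd
      have e1 : y * c * y⁻¹ = z * c := by rw [hzd]; group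
      have e2 : (τ * y * τ⁻¹) * c * (τ * y * τ⁻¹)⁻¹ = z * c := by
        calc (τ * y * τ⁻¹) * c * (τ * y * τ⁻¹)⁻¹
            = τ * (y * (τ⁻¹ * c * τ) * y⁻¹) * τ⁻¹ := by group
          _ = τ * (z * c) * τ⁻¹ := by
              rw [show τ⁻¹ * c * τ = c by rw [mul_assoc, ← hτc.eq, inv_mul_cancel_left], e1]
          _ = (τ * z * τ⁻¹) * (τ * c * τ⁻¹) := by group
          _ = z * c := by
              rw [hτc.eq, mul_inv_cancel_right, mem_center_iff.1 hz τ, mul_inv_cancel_right]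
      have e3 : w * c * w⁻¹ = c := by
        calc w * c * w⁻¹ = y⁻¹ * ((τ * y * τ⁻¹) * c * (τ * y * τ⁻¹)⁻¹) * y := by rw [hw]; group
          _ = y⁻¹ * (y * c * y⁻¹) * y := by rw [e2, e1]
          _ = c := by group
      exact mul_inv_eq_iff_eq_mul.1 e3
    have huw : Commute u w := (hwc u hu (Commute.refl u)).symm
    have hτw : Commute τ w := hτU w hwP huw
    refine commute_of_step h.prime hp2 hτ hτw ?_ (by rw [hw, mul_inv_cancel_left])
    obtain ⟨j, hj⟩ := h.pgroup ⟨w, hwP⟩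
    exact ⟨j, congrArg Subtype.val hj⟩
  -- `u` commutes with every lift of an involution
  have key : ∀ g : G, (g : G ⧸ R) * g = 1 → Commute u g ∧ ∀ r ∈ R, Commute u r := by
    intro g hg
    set Hb : Subgroup (G ⧸ R) := Subgroup.closure {(τ : G ⧸ R), (g : G ⧸ R)} with hHb
    have hsol : Group.IsSolvable Hb := CfsgLib.PSLTwoSolv.solvPair_of_two hτ2 hg
    set H := Hb.comap (QuotientGroup.mk' R) with hH
    have hne : H ≠ ⊤ := fun e => h.nsolv (by
      have hb : Hb = ⊤ := by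
        rw [← map_comap_eq_self_of_surjective (QuotientGroup.mk'_surjective R) Hb, ← hH, e]
        exact map_top_of_surjective _ (QuotientGroup.mk'_surjective R)
      rw [hb] at hsol
      haveI := hsol
      exact Group.isSolvable_of_surjective (f := (Subgroup.topEquiv (G := G ⧸ R)).toMonoidHom)
        (Subgroup.topEquiv (G := G ⧸ R)).surjective)
    have hRH : ∀ r ∈ R, r ∈ H := fun r hr => by
      show (r : G ⧸ R) ∈ Hb
      rw [(QuotientGroup.eq_one_iff r).2 hr]; exact one_mem _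
    have hτH : τ ∈ H := subset_closure (Or.inl rfl)
    have hgH : g ∈ H := subset_closure (Or.inr rfl)
    have hPH : P ⊔ zpowers τ ≤ H :=
      sup_le (fun x hx => hRH x (h.le hx)) (zpowers_le.2 hτH)
    have hc := h.pca.central hne (hPH (mem_sup_left hu)) (hPH ha) (hPH hb) hua hub hab
    exact ⟨hc g hgH, fun r hr => hc r (hRH r hr)⟩
  obtain ⟨τ₀, hτ₀⟩ := h.exists_involution
  have hall := eq_top_of_involutions hτ₀ (C := centralizer ({u} : Set G))
    (fun r hr => mem_centralizer_singleton_iff.2 ((key τ hτ2).2 r hr).eq.symm)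
    (fun g hg => mem_centralizer_singleton_iff.2 (key g hg).1.eq.symm)
  exact mem_center_iff.2 fun g =>
    mem_centralizer_singleton_iff.1 (hall ▸ mem_top g : g ∈ centralizer ({u} : Set G))

/-- `P` is a 2-group. -/
theorem Setting.prime_eq_two : p = 2 := by
  by_contra hp2
  haveI := h.normal
  obtain ⟨τ₀, hτ₀⟩ := h.exists_involution
  haveI := h.simple
  -- two involutions
  obtain ⟨τ₁, hτ₁, hne⟩ : ∃ τ₁ : G ⧸ R, orderOf τ₁ = 2 ∧ τ₁ ≠ τ₀ := by
    by_contra! hu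
    have hc : τ₀ ∈ center (G ⧸ R) := mem_center_iff.2 fun g => by
      have := hu (g * τ₀ * g⁻¹) (((MulAut.conj g).orderOf_eq τ₀).trans hτ₀)
      exact mul_inv_eq_iff_eq_mul.1 this
    rcases IsSimpleGroup.eq_bot_or_eq_top_of_normal (center (G ⧸ R)) inferInstance with hb | ht
    · rw [hb, mem_bot] at hc
      rw [hc, orderOf_one] at hτ₀
      omega
    · exact h.nsolv (Group.isSolvable_of_comm fun a b =>
        (mem_center_iff.1 (ht ▸ mem_top a : a ∈ center (G ⧸ R)) b).symm)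
  have hsq : ∀ x : G ⧸ R, orderOf x = 2 → x * x = 1 := fun x hx => by
    rw [← pow_two, ← hx, pow_orderOf_eq_one]
  have main : ∀ g : G, orderOf (g : G ⧸ R) = 2 → ∀ y ∈ P, y * (g * y * g⁻¹) ∈ center G := by
    intro g hg y hy
    obtain ⟨k, m, hm, hk⟩ := exists_two_lift (hsq _ hg) g rfl
    set τ := g ^ k with hτ
    have hτ2 : (τ : G ⧸ R) * τ = 1 := by rw [hk]; exact hsq _ hg
    have hτR : τ ∉ R := fun hr => by
      rw [(QuotientGroup.eq_one_iff τ).2 hr] at hk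
      rw [← hk, orderOf_one] at hg
      omega
    have hr : τ⁻¹ * g ∈ R := QuotientGroup.eq.1 hk
    set r := τ⁻¹ * g with hrd
    set u := y * (τ * y * τ⁻¹) with hud
    have hy' : τ * y * τ⁻¹ ∈ P := h.normal.conj_mem y hy τ
    have hyy : τ * τ ∈ R := (QuotientGroup.eq_one_iff (τ * τ)).1 hτ2
    set z1 := τ * τ * y * (τ * τ)⁻¹ * y⁻¹ with hz1d
    have hz1 : z1 ∈ center G := h.comm y hy _ hyy
    set z2 := τ * y * τ⁻¹ * y * (τ * y * τ⁻¹)⁻¹ * y⁻¹ with hz2d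
    have hz2 : z2 ∈ center G := h.comm y hy _ (h.le hy')
    set z := z1 * z2 with hzd
    have hz : z ∈ center G := mul_mem hz1 hz2
    have e : τ * u * τ⁻¹ = u * z := by
      calc τ * u * τ⁻¹ = τ * y * τ⁻¹ * (z1 * y) := by rw [hud, hz1d]; group
        _ = z1 * (τ * y * τ⁻¹ * y) := by
            rw [← mul_assoc, mem_center_iff.1 hz1 (τ * y * τ⁻¹)]; simp only [mul_assoc]
        _ = z1 * (z2 * u) := by rw [hud, hz2d]; group
        _ = z * u := (mul_assoc z1 z2 u).symm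
        _ = u * z := (mem_center_iff.1 hz u).symm
    have hzP : z ∈ P := by
      have h1 : u⁻¹ * (τ * u * τ⁻¹) ∈ P :=
        mul_mem (inv_mem (mul_mem hy hy')) (h.normal.conj_mem _ (mul_mem hy hy') τ)
      rwa [e, inv_mul_cancel_left] at h1
    obtain ⟨j, hj⟩ := h.pgroup ⟨z, hzP⟩
    have hτu := commute_of_step h.prime hp2 hm (mem_center_iff.1 hz τ) ⟨j, congrArg Subtype.val hj⟩ e
    have hu := h.not_fixed (Or.inr hp2) hm hτR hτ2 (mul_mem hy hy') hτu
    -- replace `τ` by `g = τ r`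
    set z3 := r * y * r⁻¹ * y⁻¹ with hz3d
    have hz3 : z3 ∈ center G := h.comm y hy r hr
    have e2 : y * (g * y * g⁻¹) = z3 * u := by
      calc y * (g * y * g⁻¹) = y * (τ * (z3 * y) * τ⁻¹) := by rw [hz3d, hrd]; group
        _ = y * ((τ * z3) * (y * τ⁻¹)) := by simp only [mul_assoc]
        _ = (y * z3) * (τ * (y * τ⁻¹)) := by rw [mem_center_iff.1 hz3 τ]; simp only [mul_assoc]
        _ = z3 * u := by rw [mem_center_iff.1 hz3 y, hud]; simp only [mul_assoc]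
    rw [e2]
    exact mul_mem hz3 hu
  obtain ⟨g₀, rfl⟩ := QuotientGroup.mk_surjective τ₀
  obtain ⟨g₁, rfl⟩ := QuotientGroup.mk_surjective τ₁
  refine hne ?_
  have hmem : g₀⁻¹ * g₁ ∈ R := h.cen _ fun y hy => by
    -- both act as inversion modulo the centre
    have h0 := main g₀ hτ₀ ((g₀⁻¹ * g₁) * y * (g₀⁻¹ * g₁)⁻¹) (h.normal.conj_mem y hy _)
    have h1 := main g₁ hτ₁ y hy
    rw [show g₀ * (g₀⁻¹ * g₁ * y * (g₀⁻¹ * g₁)⁻¹) * g₀⁻¹ = g₁ * y * g₁⁻¹ by group] at h0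
    have := mul_mem h0 (inv_mem h1)
    rwa [show g₀⁻¹ * g₁ * y * (g₀⁻¹ * g₁)⁻¹ * (g₁ * y * g₁⁻¹) * (y * (g₁ * y * g₁⁻¹))⁻¹ =
      g₀⁻¹ * g₁ * y * (g₀⁻¹ * g₁)⁻¹ * y⁻¹ by group] at this
  exact (QuotientGroup.eq.2 hmem).symm

/-- `P` is not abelian (unless it is central). -/
theorem Setting.not_abelian (hnil : Group.IsNilpotent R) (hPZ : ¬ P ≤ center G) :
    ¬ ∀ a ∈ P, ∀ b ∈ P, Commute a b := by
  intro hab
  obtain rfl : p = 2 := h.prime_eq_two
  haveI := h.normal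
  haveI := h.simple
  haveI := h.solv
  haveI : Fact (Nat.Prime 2) := ⟨Nat.prime_two⟩
  obtain ⟨τ₀, hτ₀⟩ := h.exists_involution
  have hcore : Cfsg.pCore 2 (G ⧸ R) = ⊥ := by
    rcases IsSimpleGroup.eq_bot_or_eq_top_of_normal (Cfsg.pCore 2 (G ⧸ R))
      inferInstance with hb | ht
    · exact hb
    · exact absurd (isSolvable_of_isPGroup (p := 2) (G := G ⧸ R) (by
        have := CfsgLib.PCore.pCore_isPGroup (p := 2) (G := G ⧸ R)
        rw [ht] at this
        exact this.of_equiv Subgroup.topEquiv)) h.nsolv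
  have hτ₀2 : τ₀ * τ₀ = 1 := by rw [← pow_two, ← hτ₀, pow_orderOf_eq_one]
  obtain ⟨c, k, hodd, hd1, hdinv⟩ := CfsgLib.Techniques.JeTwo.exists_inverted hτ₀2 (by
    rw [hcore, mem_bot]; intro e; rw [e, orderOf_one] at hτ₀; omega)
  set d₁ := (τ₀ * (c * τ₀ * c⁻¹)) ^ 2 ^ k with hd₁
  obtain ⟨q, hq, hqd⟩ := Nat.exists_prime_and_dvd (fun e => hd1 (orderOf_eq_one_iff.1 e))
  have hq2 : q ≠ 2 := fun e => by
    subst e
    exact Nat.not_even_iff_odd.2 hodd (even_iff_two_dvd.2 hqd)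
  haveI : Fact q.Prime := ⟨hq⟩
  set d := d₁ ^ (orderOf d₁ / q) with hdd
  have hdo : orderOf d = q := orderOf_pow_orderOf_div (orderOf_pos d₁).ne' hqd
  have hdi : τ₀ * d * τ₀⁻¹ = d⁻¹ := by rw [hdd, ← conj_pow, hdinv, inv_pow]
  -- Sylow `q`-subgroup of the preimage of `⟨d⟩`
  set J : Subgroup G := (zpowers d).comap (QuotientGroup.mk' R) with hJ
  obtain ⟨g₀, hg₀⟩ := QuotientGroup.mk_surjective τ₀
  obtain ⟨D⟩ : Nonempty (Sylow q J) := inferInstance
  have hgJ : ∀ x ∈ J, g₀ * x * g₀⁻¹ ∈ J := fun x hx => by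
    obtain ⟨i, hi⟩ := mem_zpowers_iff.1 (mem_comap.1 hx)
    refine mem_comap.2 (mem_zpowers_iff.2 ⟨-i, ?_⟩)
    rw [map_mul, map_mul, map_inv]
    change d ^ (-i) = ((g₀ : G) : G ⧸ R) * _ * ((g₀ : G) : G ⧸ R)⁻¹
    rw [hg₀, ← hi, ← conj_zpow, hdi, inv_zpow, zpow_neg]
  let φ : J ≃* J :=
    { toFun := fun x => ⟨g₀ * x * g₀⁻¹, hgJ x x.2⟩
      invFun := fun x => ⟨g₀⁻¹ * x * g₀, by
        have hs : g₀⁻¹ * g₀⁻¹ ∈ R := (QuotientGroup.eq_one_iff (g₀⁻¹ * g₀⁻¹)).1 (by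
          rw [QuotientGroup.mk_mul, QuotientGroup.mk_inv, hg₀, ← mul_inv_rev, hτ₀2, inv_one])
        have hRJ : R ≤ J := fun r hr => mem_comap.2 (by
          show ((r : G) : G ⧸ R) ∈ _
          rw [(QuotientGroup.eq_one_iff r).2 hr]; exact one_mem _)
        have := J.mul_mem (J.mul_mem (hRJ hs) (hgJ x x.2)) (J.inv_mem (hRJ hs))
        simpa [mul_assoc] using this⟩
      left_inv := fun x => Subtype.ext (by simp [mul_assoc])
      right_inv := fun x => Subtype.ext (by simp [mul_assoc])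
      map_mul' := fun x y => Subtype.ext (by simp [mul_assoc]) }
  obtain ⟨j, hj⟩ := MulAction.exists_smul_eq J
    (D.mapSurjective (f := φ.toMonoidHom) φ.surjective) D
  set g := (j : G) * g₀ with hgd
  set Dg : Subgroup G := (D : Subgroup J).map J.subtype with hDg
  have hDgJ : Dg ≤ J := map_subtype_le _
  have hgD : ∀ x ∈ Dg, g * x * g⁻¹ ∈ Dg := by
    rintro _ ⟨x, hx, rfl⟩
    refine ⟨j * φ x * j⁻¹, ?_, by simp [hgd, φ, mul_assoc]⟩
    rw [← hj, Sylow.smul_def, Sylow.pointwise_smul_def]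
    exact ⟨φ x, ⟨x, hx, rfl⟩, rfl⟩
  -- image of `g`
  obtain ⟨i, hi⟩ := mem_zpowers_iff.1 (mem_comap.1 j.2)
  have hgim : (g : G ⧸ R) = d ^ i * τ₀ := by
    rw [hgd, QuotientGroup.mk_mul, hg₀]
    exact congrArg (· * τ₀) hi.symm
  have hg2 : (g : G ⧸ R) * g = 1 := by
    rw [hgim]
    calc d ^ i * τ₀ * (d ^ i * τ₀) = d ^ i * (τ₀ * d ^ i * τ₀⁻¹) * (τ₀ * τ₀) := by group
      _ = 1 := by rw [← conj_zpow, hdi, inv_zpow, mul_inv_cancel, hτ₀2, one_mul]
  obtain ⟨e, m, hm, he⟩ := exists_two_lift hg2 g rfl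
  set τ := g ^ e with hτd
  have hgN : ∀ n : ℕ, ∀ x ∈ Dg, g ^ n * x * (g ^ n)⁻¹ ∈ Dg := by
    intro n
    induction n with
    | zero => intro x hx; simpa using hx
    | succ n ih =>
      intro x hx
      have := hgD _ (ih x hx)
      rw [pow_succ']
      simpa [mul_assoc] using this
  have hτD : ∀ x ∈ Dg, τ * x * τ⁻¹ ∈ Dg := hgN e
  -- a preimage of `d` in `Dg`
  have hDp : IsPGroup q Dg := D.2.map _
  obtain ⟨δ, hδD, hδ⟩ : ∃ δ ∈ Dg, (δ : G ⧸ R) = d := by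
    have hDim : (D : Subgroup J).map ((QuotientGroup.mk' R).comp J.subtype) = zpowers d := by
      refine le_antisymm (map_le_iff_le_comap.2 fun x _ => x.2) ?_
      let f : J →* zpowers d := ((QuotientGroup.mk' R).comp J.subtype).codRestrict _ fun x => x.2
      have hf : Function.Surjective f := fun ⟨y, hy⟩ => by
        obtain ⟨x, rfl⟩ := QuotientGroup.mk_surjective y
        exact ⟨⟨x, hy⟩, rfl⟩
      have htop : ((D.mapSurjective hf : Sylow q (zpowers d)) : Subgroup (zpowers d)) = ⊤ := by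
        have hz : IsPGroup q (⊤ : Subgroup (zpowers d)) :=
          (IsPGroup.of_card (n := 1) (by rw [card_top, Nat.card_zpowers, hdo, pow_one]))
        exact ((D.mapSurjective hf).3 hz le_top).symm
      intro y hy
      have hmem : (⟨y, hy⟩ : zpowers d) ∈ ((D.mapSurjective hf : Sylow q (zpowers d)) :
          Subgroup (zpowers d)) := by rw [htop]; exact mem_top _
      rw [Sylow.coe_mapSurjective] at hmem
      obtain ⟨x, hx, hxy⟩ := hmem
      exact ⟨x, hx, congrArg Subtype.val hxy⟩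
    obtain ⟨x, hx, hxd⟩ := (hDim.symm ▸ mem_zpowers d :
      d ∈ (D : Subgroup J).map ((QuotientGroup.mk' R).comp J.subtype))
    exact ⟨x, ⟨x, hx, rfl⟩, hxd⟩
  have hqP : ∀ x ∈ Dg, x ∈ R → ∀ y ∈ P, Commute x y := fun x hx hxR y hy => by
    obtain ⟨a, ha⟩ := hDp ⟨x, hx⟩
    obtain ⟨b, hb⟩ := h.pgroup ⟨y, hy⟩
    exact CfsgLib.Solvable.EigenChain.commute_of_coprime hnil hxR (h.le hy) hq Nat.prime_two hq2
      ⟨a, congrArg Subtype.val ha⟩ ⟨b, congrArg Subtype.val hb⟩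
  -- `τ δ τ⁻¹` acts as `δ⁻¹`
  set δ' := τ * δ * τ⁻¹ with hδ'
  have hτim : (τ : G ⧸ R) = d ^ i * τ₀ := he.trans hgim
  have hδ'R : δ * δ' ∈ R := (QuotientGroup.eq_one_iff _).1 (by
    rw [hδ', QuotientGroup.mk_mul, QuotientGroup.mk_mul, QuotientGroup.mk_mul, QuotientGroup.mk_inv,
      hδ, hτim]
    calc d * (d ^ i * τ₀ * d * (d ^ i * τ₀)⁻¹) = d * (d ^ i * (τ₀ * d * τ₀⁻¹) * (d ^ i)⁻¹) := by group
      _ = 1 := by rw [hdi]; group)
  have hact : ∀ y ∈ P, δ * δ' * y = y * (δ * δ') := fun y hy =>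
    (hqP _ (mul_mem hδD (hτD δ hδD)) hδ'R y hy).eq
  -- the image of `y ↦ δ y δ⁻¹ y⁻¹`
  let P1 : Subgroup G :=
    { carrier := {x | ∃ y ∈ P, δ * y * δ⁻¹ * y⁻¹ = x}
      one_mem' := ⟨1, one_mem _, by group⟩
      mul_mem' := by
        rintro _ _ ⟨a, ha, rfl⟩ ⟨b, hb, rfl⟩
        refine ⟨a * b, mul_mem ha hb, ?_⟩
        have c1 : Commute a⁻¹ (δ * b * δ⁻¹ * b⁻¹) :=
          hab _ (inv_mem ha) _ (mul_mem (h.normal.conj_mem b hb δ) (inv_mem hb))
        calc δ * (a * b) * δ⁻¹ * (a * b)⁻¹ = δ * a * δ⁻¹ * ((δ * b * δ⁻¹ * b⁻¹) * a⁻¹) := by group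
          _ = δ * a * δ⁻¹ * a⁻¹ * (δ * b * δ⁻¹ * b⁻¹) := by rw [← c1.eq]; group
      inv_mem' := by
        rintro _ ⟨a, ha, rfl⟩
        refine ⟨a⁻¹, inv_mem ha, ?_⟩
        have c1 : Commute (δ * a⁻¹ * δ⁻¹) a := hab _ (h.normal.conj_mem _ (inv_mem ha) δ) _ ha
        calc δ * a⁻¹ * δ⁻¹ * a⁻¹⁻¹ = δ * a⁻¹ * δ⁻¹ * a := by group
          _ = a * (δ * a⁻¹ * δ⁻¹) := c1.eq
          _ = (δ * a * δ⁻¹ * a⁻¹)⁻¹ := by group }
  have hP1 : P1 ≤ P := by
    rintro _ ⟨y, hy, rfl⟩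
    exact mul_mem (h.normal.conj_mem y hy δ) (inv_mem hy)
  have hdisj : ∀ x ∈ P1, Commute δ x → x = 1 := by
    rintro _ ⟨y, hy, rfl⟩ hc
    set z := δ * y * δ⁻¹ * y⁻¹ with hz
    have key : ∀ n : ℕ, δ ^ n * y * (δ ^ n)⁻¹ = z ^ n * y := by
      intro n
      induction n with
      | zero => simp
      | succ n ih =>
        calc δ ^ (n + 1) * y * (δ ^ (n + 1))⁻¹
            = δ * (δ ^ n * y * (δ ^ n)⁻¹) * δ⁻¹ := by rw [pow_succ']; group
          _ = (δ * z ^ n * δ⁻¹) * (δ * y * δ⁻¹) := by rw [ih]; group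
          _ = z ^ n * (z * y) := by
            rw [(hc.pow_right n).eq, mul_inv_cancel_right, show δ * y * δ⁻¹ = z * y by
              rw [hz, inv_mul_cancel_right]]
          _ = z ^ (n + 1) * y := by rw [← mul_assoc, ← pow_succ]
    obtain ⟨a, ha⟩ := hDp ⟨δ, hδD⟩
    obtain ⟨b, hb⟩ := h.pgroup ⟨z, mul_mem (h.normal.conj_mem y hy δ) (inv_mem hy)⟩
    have h1 := key (q ^ a)
    rw [show δ ^ q ^ a = 1 from congrArg Subtype.val ha, one_mul, inv_one, mul_one, right_eq_mul]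
      at h1
    exact orderOf_eq_one_iff.1 (Nat.eq_one_of_dvd_coprimes
      (((Nat.coprime_primes hq Nat.prime_two).2 hq2).pow a b)
      (orderOf_dvd_of_pow_eq_one h1) (orderOf_dvd_of_pow_eq_one (congrArg Subtype.val hb)))
  have hP1ne : P1 ≠ ⊥ := fun hb => by
    have hδR : δ ∈ R := h.cen δ fun y hy => by
      rw [mem_bot.1 (hb ▸ (⟨y, hy, rfl⟩ : δ * y * δ⁻¹ * y⁻¹ ∈ P1) :
        δ * y * δ⁻¹ * y⁻¹ ∈ (⊥ : Subgroup G))]
      exact one_mem _
    rw [(QuotientGroup.eq_one_iff δ).2 hδR] at hδ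
    rw [← hδ, orderOf_one] at hdo
    exact hq.one_lt.ne hdo
  have hP1τ : ∀ x ∈ P1, τ * x * τ⁻¹ ∈ P1 := by
    rintro _ ⟨y, hy, rfl⟩
    set w := τ * y * τ⁻¹ with hw
    have hwP : w ∈ P := h.normal.conj_mem y hy τ
    have e1 : δ' * w * δ'⁻¹ = δ⁻¹ * w * δ := by
      have := hact w hwP
      calc δ' * w * δ'⁻¹ = δ⁻¹ * (δ * δ' * w) * (δ * δ')⁻¹ * δ := by group
        _ = δ⁻¹ * w * δ := by rw [this]; group
    have e2 : τ * (δ * y * δ⁻¹ * y⁻¹) * τ⁻¹ = δ⁻¹ * w * δ * w⁻¹ := by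
      rw [← e1, hδ', hw]; group
    rw [e2]
    refine ⟨(δ⁻¹ * w * δ)⁻¹, inv_mem (by simpa using h.normal.conj_mem w hwP δ⁻¹), ?_⟩
    have c := hab w⁻¹ (inv_mem hwP) (δ⁻¹ * w * δ) (by simpa using h.normal.conj_mem w hwP δ⁻¹)
    calc δ * (δ⁻¹ * w * δ)⁻¹ * δ⁻¹ * (δ⁻¹ * w * δ)⁻¹⁻¹ = w⁻¹ * (δ⁻¹ * w * δ) := by group
      _ = δ⁻¹ * w * δ * w⁻¹ := c.eq
  -- a fixed point of `τ` on `P1`
  have hτN : zpowers τ ≤ normalizer (P1 : Set G) := zpowers_le.2 (by
    refine mem_normalizer_iff.2 fun x => ⟨hP1τ x, fun hx => ?_⟩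
    have hpow : ∀ n : ℕ, ∀ x ∈ P1, τ ^ n * x * (τ ^ n)⁻¹ ∈ P1 := by
      intro n
      induction n with
      | zero => intro x hx; simpa using hx
      | succ n ih =>
        intro x hx
        have := hP1τ _ (ih x hx)
        rw [pow_succ']
        simpa [mul_assoc] using this
    have h1 := hpow (2 ^ m - 1) _ hx
    rwa [show τ ^ (2 ^ m - 1) = τ⁻¹ from (inv_eq_of_mul_eq_one_right (by
      rw [← pow_succ', Nat.sub_add_cancel (Nat.one_le_two_pow), hm])).symm, inv_inv,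
      show τ⁻¹ * (τ * x * τ⁻¹) * τ = x by group] at h1)
  letI : MulDistribMulAction (zpowers τ) P1 :=
    MulDistribMulAction.compHom P1 ((normalizerMonoidHom P1).comp (inclusion hτN))
  have hτp : IsPGroup 2 (zpowers τ) := by
    rintro ⟨x, hx⟩
    obtain ⟨n, rfl⟩ := mem_zpowers_iff.1 hx
    refine ⟨m, Subtype.ext ?_⟩
    show (τ ^ n) ^ 2 ^ m = 1
    rw [← zpow_natCast, ← zpow_mul, mul_comm, zpow_mul, zpow_natCast, hm, one_zpow]
  have h2dvd : 2 ∣ Nat.card P1 := by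
    obtain ⟨a, ha⟩ := (h.pgroup.to_le hP1).exists_card_eq
    rw [ha]
    refine dvd_pow_self 2 fun ha0 => hP1ne ?_
    rw [ha0, pow_zero] at ha
    exact (Subgroup.card_eq_one).1 ha
  have h1mem : (1 : P1) ∈ MulAction.fixedPoints (zpowers τ) P1 := fun g => smul_one g
  obtain ⟨x, hx, hx1⟩ := hτp.exists_fixed_point_of_prime_dvd_card_of_fixed_point P1 h2dvd h1mem
  have hcx : Commute τ (x : G) :=
    mul_inv_eq_iff_eq_mul.1 (show τ * (x : G) * τ⁻¹ = (x : G) from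
      congrArg Subtype.val (hx ⟨τ, mem_zpowers τ⟩))
  have hτR : τ ∉ R := fun hr => by
    rw [(QuotientGroup.eq_one_iff τ).2 hr] at hτim
    have e3 : τ₀ = (d ^ i)⁻¹ := eq_inv_of_mul_eq_one_right hτim.symm
    have hdvd : 2 ∣ q := by
      rw [← hτ₀, e3, orderOf_inv, ← hdo]
      exact orderOf_dvd_of_mem_zpowers (zpow_mem (mem_zpowers d) i)
    exact hq2 ((Nat.prime_dvd_prime_iff_eq Nat.prime_two hq).1 hdvd).symm
  have hc := h.not_fixed (Or.inl hab) hm hτR (by rw [hτim, ← hgim]; exact hg2) (hP1 x.2) hcx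
  exact hx1 (Subtype.ext (hdisj x x.2 (mem_center_iff.1 hc δ))).symm

end CfsgLib.MinNonCA
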