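import Cfsg.Agent.Lib.MinNonCA.Shape
import Cfsg.Agent.Lib.MinNonCA.InvolutionAbelian
import Cfsg.Agent.Lib.MinNonCA.Radical
import Cfsg.Agent.Lib.MinNonCA.Homocyclic
import Cfsg.Agent.Lib.Coprime.HyperplaneGeneration
import Cfsg.Agent.S0949

/-!
Quasisimple groups with all proper subgroups CA and abelian Sylow 2-subgroups.
-/

set_option autoImplicit false
set_option linter.style.haveILetI false
set_option linter.unusedSectionVars false

namespace CfsgLib.MinNonCA

open Subgroup CfsgLib.Involutions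
open CfsgLib.GWCons.RankOneCover (DihedralClassification)

universe u

variable {G : Type u} [Group G] [Finite G] [Group.IsPerfect G] [Nontrivial G]
variable [IsSimpleGroup (G ⧸ center G)] (S : Sylow 2 G)
variable (hab : ∀ a ∈ (S : Subgroup G), ∀ b ∈ (S : Subgroup G), Commute a b)
include hab

theorem central_two_eq_one {z : G} (hz : z ∈ center G) (h2 : ∃ k, z ^ 2 ^ k = 1) : z = 1 := by
  haveI : Fact (Nat.Prime 2) := ⟨Nat.prime_two⟩
  exact eq_one_of_fixed S hab (mem_sylow_of_central S hz h2) fun n _ => mem_center_iff.1 hz n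

/-- An involution of the central quotient lifts to an involution whose centraliser covers. -/
theorem exists_involution_lift {x : G ⧸ center G} (hx : orderOf x = 2) :
    ∃ t : G, orderOf t = 2 ∧ (t : G ⧸ center G) = x ∧
      ∀ g : G, Commute x (g : G ⧸ center G) → Commute t g := by
  have hx2 : x * x = 1 := mul_self_eq_one hx
  obtain ⟨g₀, hg₀⟩ := QuotientGroup.mk_surjective x
  obtain ⟨k, m, hm, hk⟩ := exists_two_lift hx2 g₀ hg₀
  set t := g₀ ^ k
  have hc : ∀ z ∈ center G, (∃ j, z ^ 2 ^ j = 1) → z = 1 := fun z hz h2 =>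
    central_two_eq_one S hab hz h2
  have htt : t * t ∈ center G := (QuotientGroup.eq_one_iff _).1 (by rw [QuotientGroup.mk_mul, hk, hx2])
  have ht2 : t * t = 1 := hc _ htt ⟨m, by
    rw [(Commute.refl t).mul_pow, hm, one_mul]⟩
  refine ⟨t, orderOf_eq_two_iff_mul.2 ⟨fun e => ?_, ht2⟩, hk, fun g hg => ?_⟩
  · rw [e, QuotientGroup.mk_one] at hk
    rw [← hk, orderOf_one] at hx
    omega
  · set z := g * t * g⁻¹ * t⁻¹ with hzd
    have hz : z ∈ center G := (QuotientGroup.eq_one_iff _).1 (by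
      simp only [hzd, QuotientGroup.mk_mul, QuotientGroup.mk_inv]
      rw [hk, ← hg.eq, mul_inv_cancel_right, mul_inv_cancel])
    have e1 : g * t * g⁻¹ = z * t := by rw [hzd]; group
    have e2 : z * z = 1 := by
      calc z * z = z * z * (t * t) := by rw [ht2, mul_one]
        _ = z * (z * t) * t := by group
        _ = z * (t * z) * t := by rw [mem_center_iff.1 hz t]
        _ = (z * t) * (z * t) := by group
        _ = (g * t * g⁻¹) * (g * t * g⁻¹) := by rw [e1]
        _ = g * (t * t) * g⁻¹ := by group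
        _ = 1 := by rw [ht2]; group
    have hz1 : z = 1 := hc z hz ⟨1, by rw [pow_one, pow_two, e2]⟩
    rw [hz1, one_mul, mul_inv_eq_iff_eq_mul] at e1
    exact e1.symm

omit [Group.IsPerfect G] [Nontrivial G] [IsSimpleGroup (G ⧸ center G)] hab in
/-- Burnside: a normal 2-complement of a subgroup. -/
theorem exists_complement {M : Subgroup G} (hSM : (S : Subgroup G) ≤ M)
    (hNM : ∀ m ∈ normalizer ((S : Subgroup G) : Set G), m ∈ M →
      ∀ s ∈ (S : Subgroup G), Commute m s) :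
    ∃ O : Subgroup G, O ≤ M ∧ Odd (Nat.card O) ∧ M ≤ normalizer (O : Set G) ∧
      ∀ g ∈ M, ∃ o ∈ O, ∃ s ∈ (S : Subgroup G), g = o * s := by
  haveI : Fact (Nat.Prime 2) := ⟨Nat.prime_two⟩
  obtain ⟨SM, hSMc⟩ : ∃ SM : Sylow 2 M, ∀ x, x ∈ (SM : Subgroup M) ↔ (x : G) ∈ (S : Subgroup G) :=
    ⟨S.subtype hSM, fun x => by simp [mem_subgroupOf]⟩
  have hle : normalizer ((SM : Subgroup M) : Set M) ≤ centralizer ((SM : Subgroup M) : Set M) := by
    intro m hm
    have hmN : (m : G) ∈ normalizer ((S : Subgroup G) : Set G) :=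
      mem_normalizer_iff.2 fun x => ⟨fun hx => by
        have h1 := (mem_normalizer_iff.1 hm ⟨x, hSM hx⟩).1 ((hSMc _).2 hx)
        exact (hSMc _).1 h1, fun hx => by
        have hx' : x ∈ M := by
          have := mul_mem (mul_mem (inv_mem m.2) (hSM hx)) m.2
          simpa [mul_assoc] using this
        exact (hSMc _).1 ((mem_normalizer_iff.1 hm ⟨x, hx'⟩).2 ((hSMc _).2 hx))⟩
    exact mem_centralizer_iff.2 fun x hx =>
      Subtype.ext (hNM m hmN m.2 x ((hSMc x).1 hx)).eq.symm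
  obtain ⟨OM, hOMn, hodd, hcompl⟩ : ∃ OM : Subgroup M, OM.Normal ∧ Odd (Nat.card OM) ∧
      IsComplement' OM (SM : Subgroup M) :=
    ⟨_, inferInstance, by
      rw [← Nat.not_even_iff_odd, even_iff_two_dvd]
      exact MonoidHom.not_dvd_card_ker_transferSylow SM hle,
      MonoidHom.ker_transferSylow_isComplement' SM hle⟩
  refine ⟨OM.map M.subtype, map_subtype_le _, by rwa [card_map_of_injective M.subtype_injective],
    fun m hm => mem_normalizer_iff.2 fun x => ⟨?_, fun hx => ?_⟩, fun g hg => ?_⟩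
  · rintro ⟨y, hy, rfl⟩
    exact ⟨⟨m, hm⟩ * y * ⟨m, hm⟩⁻¹, hOMn.conj_mem y hy _, rfl⟩
  · obtain ⟨y, hy, e⟩ := hx
    refine ⟨⟨m, hm⟩⁻¹ * y * ⟨m, hm⟩, ?_, ?_⟩
    · have := hOMn.conj_mem y hy (⟨m, hm⟩ : M)⁻¹
      rwa [inv_inv] at this
    · simp only [map_mul, map_inv, Subgroup.coe_subtype] at e ⊢
      rw [e]; group
  · obtain ⟨⟨o, s⟩, hos⟩ := hcompl.2 (⟨g, hg⟩ : M)
    exact ⟨_, ⟨o, o.2, rfl⟩, _, (hSMc _).1 s.2, (congrArg Subtype.val hos).symm⟩

omit [Group.IsPerfect G] [Nontrivial G] [IsSimpleGroup (G ⧸ center G)] in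
/-- Two involutions of `S` generating a four group without central elements of `M`. -/
theorem four_false {M : Subgroup G} (h : PCA G) (hMne : M ≠ ⊤) (hSM : (S : Subgroup G) ≤ M)
    (hNM : ∀ m ∈ normalizer ((S : Subgroup G) : Set G), m ∈ M →
      ∀ s ∈ (S : Subgroup G), Commute m s)
    {e₁ e₂ : G} (he₁ : e₁ ∈ (S : Subgroup G)) (he₂ : e₂ ∈ (S : Subgroup G)) (hs₁ : e₁ * e₁ = 1)
    (hs₂ : e₂ * e₂ = 1) (hn₁ : ∃ g ∈ M, ¬ Commute e₁ g) (hn₂ : ∃ g ∈ M, ¬ Commute e₂ g)
    (hn₁₂ : ∃ g ∈ M, ¬ Commute (e₁ * e₂) g) : False := by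
  classical
  haveI : Fact (Nat.Prime 2) := ⟨Nat.prime_two⟩
  obtain ⟨O, hOM', hOodd, hON, hMO⟩ := exists_complement S hSM hNM
  have c12 := hab e₁ he₁ e₂ he₂
  let A : Subgroup G :=
    { carrier := {x | x = 1 ∨ x = e₁ ∨ x = e₂ ∨ x = e₁ * e₂}
      one_mem' := Or.inl rfl
      mul_mem' := by
        have p1 : e₁ * (e₁ * e₂) = e₂ := by rw [← mul_assoc, hs₁, one_mul]
        have p2 : e₂ * (e₁ * e₂) = e₁ := by rw [← mul_assoc, ← c12.eq, mul_assoc, hs₂, mul_one]
        have p3 : e₁ * e₂ * e₁ = e₂ := by rw [c12.eq, mul_assoc, hs₁, mul_one]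
        have p4 : e₁ * e₂ * e₂ = e₁ := by rw [mul_assoc, hs₂, mul_one]
        have p5 : e₂ * e₁ = e₁ * e₂ := c12.eq.symm
        have p6 : e₁ * e₂ * (e₁ * e₂) = 1 := by rw [← mul_assoc, p3, hs₂]
        rintro x y (rfl | rfl | rfl | rfl) (rfl | rfl | rfl | rfl) <;>
          simp [hs₁, hs₂, p1, p2, p3, p4, p5, p6]
      inv_mem' := by
        have i1 : e₁⁻¹ = e₁ := inv_eq_of_mul_eq_one_right hs₁
        have i2 : e₂⁻¹ = e₂ := inv_eq_of_mul_eq_one_right hs₂
        rintro x (rfl | rfl | rfl | rfl) <;> simp [i1, i2, c12.eq] }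
  have hAS : A ≤ (S : Subgroup G) := by
    rintro x (rfl | rfl | rfl | rfl)
    exacts [one_mem _, he₁, he₂, mul_mem he₁ he₂]
  have hAne : ∀ x ∈ A, x ≠ 1 → ∃ g ∈ M, ¬ Commute x g := by
    rintro x (rfl | rfl | rfl | rfl) hx
    exacts [absurd rfl hx, hn₁, hn₂, hn₁₂]
  have hA : Cfsg.IsElementaryAbelian 2 A :=
    ⟨⟨⟨fun x y => Subtype.ext (hab x (hAS x.2) y (hAS y.2)).eq⟩⟩, by
      rintro x (rfl | rfl | rfl | rfl) <;> rw [pow_two]
      exacts [one_mul 1, hs₁, hs₂, by
        rw [(c12.symm).mul_mul_mul_comm, hs₁, hs₂, one_mul]]⟩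
  have he₁1 : e₁ ≠ 1 := fun e => by
    obtain ⟨g, -, hg⟩ := hn₁
    exact hg (e ▸ Commute.one_left g)
  have hA1 : A ≠ ⊥ := fun e =>
    he₁1 (mem_bot.1 (e ▸ (Or.inr (Or.inl rfl) : e₁ ∈ A)))
  have hgen := CfsgLib.Coprime39.eq_hyperCent (p := 2) hA hA1
    (Nat.coprime_two_right.2 hOodd)
    (fun x hx => hON (hSM (hAS hx)))
  have hOS : ∀ o ∈ O, ∀ s ∈ (S : Subgroup G), Commute o s := by
    intro o ho
    have hle' : CfsgLib.Coprime39.hyperCent 2 A O ≤ centralizer ((S : Subgroup G) : Set G) := by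
      refine iSup_le fun ⟨B, hBA, hB2⟩ => ?_
      obtain ⟨e, heB, he1⟩ : ∃ e ∈ B, e ≠ 1 := by
        by_contra! hcon
        have hB : B = ⊥ := (eq_bot_iff_forall _).2 hcon
        rw [hB, relIndex_bot_left] at hB2
        have h3 : ({1, e₁, e₂} : Finset G).card ≤ Nat.card A := by
          rw [← Nat.card_eq_finsetCard]
          refine Nat.card_le_card_of_injective (fun z => (⟨z.1, ?_⟩ : A))
            fun u v huv => Subtype.ext (congrArg (fun w : A => (w : G)) huv :)
          have := z.2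
          simp only [Finset.mem_insert, Finset.mem_singleton] at this
          rcases this with h | h | h
          exacts [Or.inl h, Or.inr (Or.inl h), Or.inr (Or.inr (Or.inl h))]
        have he₂1 : e₂ ≠ 1 := fun e => by
          obtain ⟨g, -, hg⟩ := hn₂
          exact hg (e ▸ Commute.one_left g)
        have h12 : e₁ ≠ e₂ := fun e => by
          obtain ⟨g, -, hg⟩ := hn₁₂
          exact hg (by rw [← e, hs₁]; exact Commute.one_left g)
        rw [Finset.card_insert_of_notMem (by simp [Ne.symm he₁1, Ne.symm he₂1]),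
          Finset.card_insert_of_notMem (by simpa using h12), Finset.card_singleton] at h3
        omega
      obtain ⟨g, hg, hge⟩ := hAne e (hBA heB) he1
      rintro c ⟨hcO, hcB⟩
      refine mem_centralizer_iff.2 fun s hs => ?_
      exact (h.commute hMne (hSM (hAS (hBA heB))) hg hge (hOM' hcO) (hSM hs)
        (mem_centralizer_iff.1 hcB e heB) (hab e (hAS (hBA heB)) s hs)).eq.symm
    intro s hs
    exact (mem_centralizer_iff.1 (hle' (hgen.symm ▸ ho)) s hs).symm
  obtain ⟨g, hg, hge⟩ := hn₁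
  -- `M = O S`, so `e₁` is central
  obtain ⟨o, ho, s, hs, hgos⟩ := hMO g hg
  refine hge ?_
  rw [hgos]
  exact ((hOS o ho e₁ he₁).symm).mul_right (hab e₁ he₁ s hs)

/-- The theorem of this file. -/
theorem shape_of_abelian_sylow (hGW : DihedralClassification.{u}) (h : PCA G) : Shape G := by
  classical
  haveI : Fact (Nat.Prime 2) := ⟨Nat.prime_two⟩
  by_cases hall : ∀ t a b : G, orderOf t = 2 → Commute t a → Commute t b → Commute a b
  · obtain ⟨F, hF, hFt, ⟨n, hn, hq⟩, hi⟩ := psl_two_even_of_abelian_centralizers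
      (G := G ⧸ center G) not_isSolvable_quotient fun x a b hx ha hb => by
        obtain ⟨t, ht, -, hlift⟩ := exists_involution_lift S hab hx
        obtain ⟨a, rfl⟩ := QuotientGroup.mk_surjective a
        obtain ⟨b, rfl⟩ := QuotientGroup.mk_surjective b
        exact (hall t a b ht (hlift a ha) (hlift b hb)).map (QuotientGroup.mk' (center G))
    refine ⟨F, hF, hFt, ?_, hi⟩
    rw [hq]
    calc 4 = 2 ^ 2 := rfl
      _ ≤ 2 ^ n := Nat.pow_le_pow_right two_pos hn
  push Not at hall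
  obtain ⟨t₀, a₀, b₀, ht₀, hta₀, htb₀, hab₀⟩ := hall
  -- move the involution into `S`
  obtain ⟨g₀, htS⟩ : ∃ g : G, g * t₀ * g⁻¹ ∈ (S : Subgroup G) := by
    have hp : IsPGroup 2 (zpowers t₀) :=
      IsPGroup.of_card (n := 1) (by rw [Nat.card_zpowers, ht₀, pow_one])
    obtain ⟨P, hP⟩ := hp.exists_le_sylow
    obtain ⟨g, rfl⟩ := MulAction.exists_smul_eq G P S
    refine ⟨g, ?_⟩
    rw [Sylow.coe_subgroup_smul]
    exact ⟨t₀, hP (mem_zpowers t₀), rfl⟩
  set t := g₀ * t₀ * g₀⁻¹ with ht0d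
  have ht : orderOf t = 2 := (orderOf_conj_eq g₀ t₀).trans ht₀
  have hmap : ∀ {x : G}, Commute t₀ x → Commute t (g₀ * x * g₀⁻¹) := fun hx => by
    have := hx.map (MulAut.conj g₀).toMonoidHom
    simpa [ht0d] using this
  set M := centralizer ({t} : Set G) with hMd
  have hmemM : ∀ {c : G}, c ∈ M ↔ Commute t c := fun {c} =>
    ⟨fun h => (mem_centralizer_singleton_iff.1 h).symm, fun h => mem_centralizer_singleton_iff.2 h.eq.symm⟩
  set a := g₀ * a₀ * g₀⁻¹
  set b := g₀ * b₀ * g₀⁻¹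
  have hta : Commute t a := hmap hta₀
  have htb : Commute t b := hmap htb₀
  have habn : ¬ Commute a b := fun e => hab₀ ((MulAut.conj g₀).injective (by
    simpa only [map_mul, MulAut.conj_apply] using e.eq))
  have hns : ¬ Group.IsSolvable G := Group.IsPerfect.not_isSolvable G
  have ht1 : t ≠ 1 := fun e => by rw [e, orderOf_one] at ht; omega
  have htc : t ∉ center G := fun hc => ht1 (central_two_eq_one S hab hc
    ⟨1, by rw [pow_one, ← ht, pow_orderOf_eq_one]⟩)
  have hMne : M ≠ ⊤ := centralizer_ne_top htc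
  have hSM : (S : Subgroup G) ≤ M := fun s hs => hmemM.2 (hab t htS s hs)
  set N := normalizer ((S : Subgroup G) : Set G) with hN
  have hNne : N ≠ ⊤ := normalizer_sylow_ne_top hns S
  have hSN : (S : Subgroup G) ≤ N := le_normalizer
  -- what normalises `S` and fixes an element `≠ 1` of `S` centralises `S`
  have hsemi : ∀ y ∈ (S : Subgroup G), y ≠ 1 → ∀ n ∈ N, Commute y n →
      ∀ s ∈ (S : Subgroup G), Commute n s := by
    intro y hy hy1 n hn hyn s hs
    obtain ⟨g, hg, hgy⟩ : ∃ g ∈ N, ¬ Commute g y := by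
      by_contra! hcon
      exact hy1 (eq_one_of_fixed S hab hy hcon)
    exact h.commute hNne (hSN hy) hg (fun e => hgy e.symm) hn (hSN hs) hyn (hab y hy s hs)
  have hNM : ∀ m ∈ N, m ∈ M → ∀ s ∈ (S : Subgroup G), Commute m s := fun m hm hmM =>
    hsemi t htS ht1 m hm (hmemM.1 hmM)
  have key : ∀ e₁ ∈ (S : Subgroup G), ∀ e₂ ∈ (S : Subgroup G), e₁ * e₁ = 1 → e₂ * e₂ = 1 →
      (∃ g ∈ M, ¬ Commute e₁ g) → (∃ g ∈ M, ¬ Commute e₂ g) →
      (∃ g ∈ M, ¬ Commute (e₁ * e₂) g) → False := fun e₁ he₁ e₂ he₂ hs₁ hs₂ hn₁ hn₂ hn₁₂ =>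
    four_false S hab h hMne hSM hNM he₁ he₂ hs₁ hs₂ hn₁ hn₂ hn₁₂
  -- involutions of `S`
  let E : Subgroup G :=
    { carrier := {x | x ∈ (S : Subgroup G) ∧ x * x = 1}
      one_mem' := ⟨one_mem _, one_mul 1⟩
      mul_mem' := fun {x y} hx hy => ⟨mul_mem hx.1 hy.1, by
        rw [(hab y hy.1 x hx.1).mul_mul_mul_comm, hx.2, hy.2, one_mul]⟩
      inv_mem' := fun {x} hx => ⟨inv_mem hx.1, by rw [← mul_inv_rev, hx.2, inv_one]⟩ }
  let E₀ : Subgroup G := E ⊓ centralizer (M : Set G)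
  have hE₀ : ∀ x ∈ E, x ∉ E₀ → ∃ g ∈ M, ¬ Commute x g := fun x hx hx' => by
    by_contra! hcon
    exact hx' ⟨hx, mem_centralizer_iff.2 fun g hg => (hcon g hg).eq.symm⟩
  have hsum : ∀ x ∈ E, ∀ y ∈ E, x ∉ E₀ → y ∉ E₀ → x * y ∈ E₀ := fun x hx y hy hx' hy' => by
    by_contra hxy
    exact key x hx.1 y hy.1 hx.2 hy.2 (hE₀ x hx hx') (hE₀ y hy hy') (hE₀ _ (mul_mem hx hy) hxy)
  have hnorm : ∃ n ∈ N, ∃ s ∈ (S : Subgroup G), ¬ Commute n s := by
    by_contra! hcon
    exact ht1 (eq_one_of_fixed S hab htS fun n hn => hcon n hn t htS)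
  obtain ⟨n, hn, s₀, hs₀, hns₀⟩ := hnorm
  have hnorm' : normalizer (M : Set G) ≠ ⊤ := fun e => by
    haveI : M.Normal := normalizer_eq_top_iff.1 e
    haveI := nontrivial_quotient (G := G)
    rcases IsSimpleGroup.eq_bot_or_eq_top_of_normal (M.map (QuotientGroup.mk' (center G)))
      ((inferInstance : M.Normal).map _ (QuotientGroup.mk'_surjective _)) with hb | ht'
    · rw [Subgroup.map_eq_bot_iff, QuotientGroup.ker_mk'] at hb
      exact htc (hb (hmemM.2 (Commute.refl t)))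
    · refine hMne (top_le_iff.1 ?_)
      have h2 : M ⊔ center G = ⊤ := by
        rw [← QuotientGroup.ker_mk' (center G), ← comap_map_eq, ht', comap_top]
      rw [← h2]
      exact sup_le le_rfl (fun z hz => hmemM.2 (mem_center_iff.1 hz t))
  -- `E₀` meets its conjugate trivially
  have hTI : ∀ y, y ∈ E₀ → n⁻¹ * y * n ∈ E₀ → y = 1 := by
    intro y hy hny
    by_contra hy1
    have hyc : y ∉ center G := fun hc => hy1 (central_two_eq_one S hab hc
      ⟨1, by rw [pow_one, pow_two, hy.1.2]⟩)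
    have hMy : M ≤ centralizer ({y} : Set G) := fun m hm =>
      mem_centralizer_singleton_iff.2 (mem_centralizer_iff.1 hy.2 m hm)
    have hCy : centralizer ({y} : Set G) = M :=
      h.centralizer_eq (centralizer_ne_top hyc) hta htb habn hMy
    have hnM : ∀ m ∈ M, n * m * n⁻¹ ∈ M := by
      intro m hm
      rw [← hCy]
      refine mem_centralizer_singleton_iff.2 ?_
      have h1 : Commute m (n⁻¹ * y * n) := mem_centralizer_iff.1 hny.2 m hm
      have := h1.map (MulAut.conj n).toMonoidHom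
      simpa [mul_assoc] using this.eq
    have hnN : n ∈ normalizer (M : Set G) := by
      refine mem_normalizer_iff.2 fun x => ⟨hnM x, fun hx => ?_⟩
      have himg : M.map (MulAut.conj n).toMonoidHom = M := by
        refine eq_of_le_of_card_ge ?_ ?_
        · rintro _ ⟨m, hm, rfl⟩
          exact hnM m hm
        · rw [card_map_of_injective (MulAut.conj n).injective]
      obtain ⟨x', hx', e⟩ := (himg.symm ▸ hx : n * x * n⁻¹ ∈ M.map (MulAut.conj n).toMonoidHom)
      rwa [← (MulAut.conj n).injective e]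
    have hcen := h.central hnorm' (le_normalizer (hmemM.2 (Commute.refl t)))
      (le_normalizer (hmemM.2 hta)) (le_normalizer (hmemM.2 htb)) hta htb habn
    exact hns₀ (hNM n hn (hmemM.2 (hcen n hnN)) s₀ hs₀)
  have hconjE : ∀ x, x ∈ E₀ → n * x * n⁻¹ ∈ E := fun x hx => by
    refine ⟨(mem_normalizer_iff.1 hn x).1 hx.1.1, ?_⟩
    rw [show n * x * n⁻¹ * (n * x * n⁻¹) = n * (x * x) * n⁻¹ by group, hx.1.2]; group
  -- `|E| = 4`
  have hEcard : Nat.card E ≤ 2 * Nat.card E₀ := by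
    by_cases hx : ∃ x ∈ E, x ∉ E₀
    · obtain ⟨x₀, hx₀, hx₀'⟩ := hx
      let f : E₀ ⊕ E₀ → E := Sum.elim (fun z => ⟨z, z.2.1⟩) (fun z => ⟨x₀ * z, mul_mem hx₀ z.2.1⟩)
      have hf : Function.Surjective f := fun ⟨w, hw⟩ => by
        by_cases hw' : w ∈ E₀
        · exact ⟨Sum.inl ⟨w, hw'⟩, rfl⟩
        · exact ⟨Sum.inr ⟨x₀ * w, hsum x₀ hx₀ w hw hx₀' hw'⟩, Subtype.ext (show x₀ * (x₀ * w) = w by
            rw [← mul_assoc, hx₀.2, one_mul])⟩
      calc Nat.card E ≤ Nat.card (E₀ ⊕ E₀) := Nat.card_le_card_of_surjective f hf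
        _ = 2 * Nat.card E₀ := by rw [Nat.card_sum, two_mul]
    · push Not at hx
      calc Nat.card E ≤ Nat.card E₀ := Nat.card_le_card_of_injective
            (fun z => (⟨z, hx z z.2⟩ : E₀)) fun u v huv =>
              Subtype.ext (congrArg (fun w : E₀ => (w : G)) huv :)
        _ ≤ 2 * Nat.card E₀ := Nat.le_mul_of_pos_left _ two_pos
  have hsq : Nat.card E₀ * Nat.card E₀ ≤ Nat.card E := by
    rw [← Nat.card_prod]
    refine Nat.card_le_card_of_injective
      (fun p : E₀ × E₀ => (⟨p.1 * (n * p.2 * n⁻¹), mul_mem p.1.2.1 (hconjE _ p.2.2)⟩ : E)) ?_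
    intro p q hpq
    have e : (p.1 : G) * (n * p.2 * n⁻¹) = q.1 * (n * q.2 * n⁻¹) := congrArg Subtype.val hpq
    have e2 : ((q.1 : G))⁻¹ * p.1 = n * (q.2 * (p.2 : G)⁻¹) * n⁻¹ := by
      calc ((q.1 : G))⁻¹ * p.1 = (q.1 : G)⁻¹ * ((p.1 : G) * (n * p.2 * n⁻¹)) * (n * p.2 * n⁻¹)⁻¹ := by group
        _ = _ := by rw [e]; group
    have h1 := hTI ((q.1 : G)⁻¹ * p.1) (mul_mem (inv_mem q.1.2) p.1.2) (by
      rw [e2, show n⁻¹ * (n * ((q.2 : G) * (p.2 : G)⁻¹) * n⁻¹) * n = q.2 * (p.2 : G)⁻¹ by group]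
      exact mul_mem q.2.2 (inv_mem p.2.2))
    have h11 : (q.1 : G) = p.1 := by rwa [inv_mul_eq_one] at h1
    have h12 : (p.2 : G) = q.2 := by
      rw [h11] at e
      simpa using e
    exact Prod.ext (Subtype.ext h11.symm) (Subtype.ext h12)
  have htE : t ∈ E₀ := ⟨⟨htS, by rw [← pow_two, ← ht, pow_orderOf_eq_one]⟩,
    mem_centralizer_iff.2 fun g hg => (hmemM.1 hg).eq.symm⟩
  have hE₀c : Nat.card E₀ ≤ 2 := Nat.le_of_mul_le_mul_right (hsq.trans hEcard) Nat.card_pos
  have hE4 : Nat.card E ≤ 4 := by omega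
  -- three involutions permuted by `n`
  have hfix : ∀ x ∈ E, x ≠ 1 → ∀ m ∈ N, Commute x m → Commute m s₀ := fun x hx hx1 m hm hxm =>
    hsemi x hx.1 hx1 m hm hxm s₀ hs₀
  have htE' : t ∈ E := htE.1
  set f := n * t * n⁻¹ with hf
  have hfE : f ∈ E := hconjE t htE
  have hf1 : f ≠ 1 := fun e => ht1 (conj_eq_one_iff.1 e)
  have hft : f ≠ t := fun e => hns₀ (hfix t htE' ht1 n hn (mul_inv_eq_iff_eq_mul.1 e).symm)
  have hlist : ∀ x ∈ E, x = 1 ∨ x = t ∨ x = f ∨ x = t * f := by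
    intro x hx
    by_contra! hcon
    have h5 : ({1, t, f, t * f, x} : Finset G).card ≤ Nat.card E := by
      rw [← Nat.card_eq_finsetCard]
      refine Nat.card_le_card_of_injective (fun z => (⟨z.1, ?_⟩ : E))
        fun u v huv => Subtype.ext (congrArg (fun w : E => (w : G)) huv :)
      have := z.2
      simp only [Finset.mem_insert, Finset.mem_singleton] at this
      rcases this with h | h | h | h | h <;> rw [h]
      exacts [one_mem _, htE', hfE, mul_mem htE' hfE, hx]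
    have h6 : t * f ≠ 1 := fun e => hft (by
      rw [← mul_left_inj t⁻¹] at e
      have hti : t⁻¹ = t := inv_eq_of_mul_eq_one_right htE'.2
      have := (hab t htS f hfE.1).eq
      calc f = t * (t * f) := by rw [← mul_assoc, htE'.2, one_mul]
        _ = t := by
            have e' : t * f = 1 := mul_right_cancel e
            rw [e', mul_one])
    have h7 : t * f ≠ t := fun e => hf1 (mul_eq_left.1 e)
    have h8 : t * f ≠ f := fun e => ht1 (mul_eq_right.1 e)
    rw [Finset.card_insert_of_notMem (by simp [Ne.symm ht1, Ne.symm hf1, Ne.symm h6, Ne.symm hcon.1]),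
      Finset.card_insert_of_notMem (by simp [Ne.symm hft, Ne.symm h7, Ne.symm hcon.2.1]),
      Finset.card_insert_of_notMem (by simp [Ne.symm h8, Ne.symm hcon.2.2.1]),
      Finset.card_insert_of_notMem (by simp [Ne.symm hcon.2.2.2]), Finset.card_singleton] at h5
    omega
  have htrans : ∀ x ∈ E, x ≠ 1 → ∃ m ∈ N, m * t * m⁻¹ = x := by
    intro x hx hx1
    rcases hlist x hx with rfl | rfl | rfl | rfl
    · exact absurd rfl hx1
    · exact ⟨1, one_mem _, by group⟩
    · exact ⟨n, hn, rfl⟩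
    · refine ⟨n * n, mul_mem hn hn, ?_⟩
      have h2 : n * n * t * (n * n)⁻¹ = n * f * n⁻¹ := by rw [hf]; group
      rw [h2]
      have h2E : n * f * n⁻¹ ∈ E := ⟨(mem_normalizer_iff.1 hn f).1 hfE.1, by
        rw [show n * f * n⁻¹ * (n * f * n⁻¹) = n * (f * f) * n⁻¹ by group, hfE.2]; group⟩
      rcases hlist _ h2E with e | e | e | e
      · exact absurd (conj_eq_one_iff.1 e) hf1
      · exfalso
        -- `n` swaps `t` and `f`, so it fixes `t * f`
        refine hns₀ (hfix (t * f) (mul_mem htE' hfE) hx1 n hn ?_)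
        have e3 : n * (t * f) * n⁻¹ = t * f := by
          calc n * (t * f) * n⁻¹ = (n * t * n⁻¹) * (n * f * n⁻¹) := by group
            _ = f * t := by rw [e]
            _ = t * f := (hab t htS f hfE.1).eq.symm
        exact (mul_inv_eq_iff_eq_mul.1 e3).symm
      · exact absurd (mul_inv_eq_iff_eq_mul.1 e) (fun e' => hns₀ (hfix f hfE hf1 n hn (e'.symm)))
      · exact e
  -- `S` is homocyclic
  obtain ⟨m, hm⟩ : ∃ m, Monoid.exponent (S : Subgroup G) = 2 ^ m := by
    obtain ⟨k, hk⟩ := S.2.exists_card_eq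
    obtain ⟨j, -, hj⟩ := (Nat.dvd_prime_pow Nat.prime_two).1
      (hk ▸ Group.exponent_dvd_nat_card (G := (S : Subgroup G)))
    exact ⟨j, hj⟩
  have hexp : ∀ x : (S : Subgroup G), x ^ 2 ^ m = 1 := fun x => hm ▸ Monoid.pow_exponent_eq_one x
  have hm1 : 1 ≤ m := by
    by_contra h0
    have := congrArg Subtype.val (hexp ⟨t, htS⟩)
    rw [show m = 0 by omega, pow_zero, pow_one] at this
    exact ht1 this
  obtain ⟨x₀, hx₀⟩ : ∃ x : (S : Subgroup G), x ^ 2 ^ (m - 1) ≠ 1 := by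
    by_contra! hcon
    have hd := Monoid.exponent_dvd_of_forall_pow_eq_one hcon
    rw [hm, Nat.pow_dvd_pow_iff_le_right (by norm_num)] at hd
    omega
  set e₀ := x₀ ^ 2 ^ (m - 1) with he₀
  have he₀E : (e₀ : G) ∈ E := ⟨e₀.2, by
    rw [← Subgroup.coe_mul, he₀, ← pow_two, ← pow_mul, ← pow_succ, Nat.sub_add_cancel hm1, hexp]
    rfl⟩
  have he₀1 : (e₀ : G) ≠ 1 := fun e => hx₀ (Subtype.ext e)
  have hroot : ∀ x ∈ E, x ≠ 1 → ∃ y : (S : Subgroup G), ((y ^ 2 ^ (m - 1) : (S : Subgroup G)) : G) = x := by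
    intro x hx hx1
    obtain ⟨m₁, hm₁, e₁⟩ := htrans _ he₀E he₀1
    obtain ⟨m₂, hm₂, e₂⟩ := htrans x hx hx1
    have hk : m₂ * m₁⁻¹ ∈ N := mul_mem hm₂ (inv_mem hm₁)
    refine ⟨⟨m₂ * m₁⁻¹ * x₀ * (m₂ * m₁⁻¹)⁻¹, (mem_normalizer_iff.1 hk _).1 x₀.2⟩, ?_⟩
    simp only [SubmonoidClass.coe_pow]
    rw [conj_pow, ← SubmonoidClass.coe_pow, ← he₀, ← e₁, ← e₂]
    group
  obtain ⟨X, hX⟩ := hroot t htE' ht1
  obtain ⟨Y, hY⟩ := hroot f hfE hf1
  obtain ⟨eS⟩ := nonempty_homocyclic
    (fun a b : (S : Subgroup G) => Subtype.ext (hab a a.2 b b.2).eq) hm1 hexp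
    (x := X) (y := Y) (fun e => ht1 (by rw [← hX, e]; rfl)) (fun e => hf1 (by rw [← hY, e]; rfl))
    (fun e => hft (by rw [← hX, ← hY, e]))
    (fun z hz => by
      rcases hlist z ⟨z.2, congrArg Subtype.val hz⟩ with e | e | e | e
      · exact Or.inl (Subtype.ext e)
      · exact Or.inr (Or.inl (Subtype.ext (e.trans hX.symm)))
      · exact Or.inr (Or.inr (Or.inl (Subtype.ext (e.trans hY.symm))))
      · exact Or.inr (Or.inr (Or.inr (Subtype.ext (by rw [e, Subgroup.coe_mul, hX, hY])))))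
  -- to the quotient
  set T := S.mapSurjective (QuotientGroup.mk'_surjective (center G))
  have hinjS : Function.Injective ((QuotientGroup.mk' (center G)).comp (S : Subgroup G).subtype) := by
    refine (injective_iff_map_eq_one _).2 fun x hx => Subtype.ext ?_
    obtain ⟨k, hk⟩ := S.2 x
    exact central_two_eq_one S hab ((QuotientGroup.eq_one_iff _).1 hx) ⟨k, congrArg Subtype.val hk⟩
  let eT : (S : Subgroup G) ≃* (T : Subgroup (G ⧸ center G)) :=
    ((MonoidHom.ofInjective hinjS).trans (MulEquiv.subgroupCongr (by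
      rw [MonoidHom.range_eq_map, ← Subgroup.map_map, ← MonoidHom.range_eq_map,
        Subgroup.range_subtype]
      rfl)))
  rcases Nat.lt_or_ge m 2 with hm2 | hm2
  · obtain rfl : m = 1 := by omega
    haveI : IsKleinFour (T : Subgroup (G ⧸ center G)) := by
      refine ⟨?_, ?_⟩
      · rw [Nat.card_congr (eT.symm.trans eS).toEquiv]
        simp [Nat.card_congr Multiplicative.toAdd, Nat.card_prod]
      · rw [← Monoid.exponent_eq_of_mulEquiv eT, hm, pow_one]
    rcases shape_of_dihedral hGW T le_rfl IsKleinFour.nonempty_mulEquiv with hs | h7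
    · exact hs
    · exfalso
      obtain ⟨e7⟩ := h7
      have h4 : Nat.card (T : Subgroup (G ⧸ center G)) = 4 := IsKleinFour.card_four
      have hmul := (T : Subgroup (G ⧸ center G)).card_mul_index
      have hodd := T.not_dvd_index
      rw [h4, Nat.card_congr e7.toEquiv, nat_card_alternatingGroup, Nat.card_fin] at hmul
      norm_num [Nat.factorial] at hmul
      omega
  · exfalso
    obtain ⟨hn', -, -⟩ := Cfsg.Agent.S0949.result T m hm2 (eT.symm.trans eS) fun W hW hodd => by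
      rcases IsSimpleGroup.eq_bot_or_eq_top_of_normal W hW with hb | htop
      · exact hb
      · exfalso
        obtain ⟨x, hx⟩ := exists_involution_quotient (G := G)
        rw [htop, card_top] at hodd
        exact Nat.not_even_iff_odd.2 hodd (even_iff_two_dvd.2 (hx ▸ orderOf_dvd_natCard x))
    rcases IsSimpleGroup.eq_bot_or_eq_top_of_normal (T : Subgroup (G ⧸ center G)) hn' with hb | htop
    · have := congrArg Subtype.val (eT.injective (a₁ := ⟨t, htS⟩) (a₂ := 1) (Subtype.ext (by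
        rw [map_one]
        exact (eq_bot_iff_forall _).1 hb _ (eT ⟨t, htS⟩).2)))
      exact ht1 this
    · exact not_isSolvable_quotient (G := G) (isSolvable_of_isPGroup (p := 2) (by
        have := T.2
        rw [htop] at this
        exact this.of_equiv Subgroup.topEquiv))

end CfsgLib.MinNonCA
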