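import Cfsg.Agent.Lib.MinNonCA.Shape
import Cfsg.Agent.Lib.MinNonCA.Radical

/-!
The central quotient is not `A₇` when lifts of four groups are nonabelian.
-/

set_option autoImplicit false
set_option linter.style.haveILetI false
set_option linter.unusedSectionVars false

namespace CfsgLib.MinNonCA

open Subgroup

universe u

open Equiv in
/-- An element of order three centralising a four group and inverted by a further element. -/
theorem alt_seven_data : ∃ c v w i : alternatingGroup (Fin 7), c ^ 3 = 1 ∧ c ≠ 1 ∧ v * v = 1 ∧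
    w * w = 1 ∧ v ≠ 1 ∧ w ≠ 1 ∧ v ≠ w ∧ v * w = w * v ∧ v * c = c * v ∧ w * c = c * w ∧
    i * c * i⁻¹ = c⁻¹ :=
  ⟨⟨swap 4 5 * swap 5 6, Equiv.Perm.mem_alternatingGroup.2 (by decide)⟩, ⟨swap 0 1 * swap 2 3, Equiv.Perm.mem_alternatingGroup.2 (by decide)⟩,
    ⟨swap 0 2 * swap 1 3, Equiv.Perm.mem_alternatingGroup.2 (by decide)⟩, ⟨swap 0 1 * swap 4 5, Equiv.Perm.mem_alternatingGroup.2 (by decide)⟩,
    by decide, by decide, by decide, by decide, by decide, by decide, by decide, by decide,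
    by decide, by decide, by decide⟩

variable {G : Type u} [Group G] [Finite G]

/-- A lift of prime power order. -/
theorem exists_prime_lift {N : Subgroup G} [N.Normal] {p : ℕ} (hp : p.Prime) {x : G ⧸ N}
    (hx : x ^ p = 1) : ∃ g : G, (∃ k, g ^ p ^ k = 1) ∧ (g : G ⧸ N) = x := by
  obtain ⟨g, rfl⟩ := QuotientGroup.mk_surjective x
  obtain ⟨k, m, hm, hord⟩ :=
    Nat.exists_eq_pow_mul_and_not_dvd (orderOf_pos g).ne' p hp.ne_one
  obtain ⟨j, hj⟩ := Nat.exists_mul_mod_eq_one_of_coprime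
    ((hp.coprime_iff_not_dvd.2 hm).symm) hp.one_lt
  refine ⟨g ^ (m * j), ⟨k, ?_⟩, ?_⟩
  · rw [← pow_mul, show m * j * p ^ k = p ^ k * m * j by ring, ← hord, pow_mul, pow_orderOf_eq_one,
      one_pow]
  · rw [QuotientGroup.mk_pow, pow_eq_pow_mod _ hx, hj.2, pow_one]

variable [Group.IsPerfect G] [Nontrivial G]

theorem alt_seven_false (h : PCA G) (e : G ⧸ center G ≃* alternatingGroup (Fin 7))
    (hK : ∀ x y : G, x * x ∈ center G → y * y ∈ center G → x ∉ center G → y ∉ center G →
      x⁻¹ * y ∉ center G → x * y * x⁻¹ * y⁻¹ ∈ center G → ¬ Commute x y) : False := by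
  obtain ⟨c, v, w, i, hc, hc1, hv, hw, hv1, hw1, hvw, hcom, hvc, hwc, hi⟩ := alt_seven_data
  obtain ⟨C, ⟨a, hC⟩, hCe⟩ := exists_prime_lift (G := G) (N := center G) Nat.prime_three
    (x := e.symm c) (by rw [← map_pow, hc, map_one])
  obtain ⟨V, ⟨b, hV⟩, hVe⟩ := exists_prime_lift (G := G) (N := center G) Nat.prime_two
    (x := e.symm v) (by rw [← map_pow, pow_two, hv, map_one])
  obtain ⟨W, ⟨b', hW⟩, hWe⟩ := exists_prime_lift (G := G) (N := center G) Nat.prime_two
    (x := e.symm w) (by rw [← map_pow, pow_two, hw, map_one])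
  obtain ⟨I, hIe⟩ := QuotientGroup.mk_surjective (e.symm i)
  have hcomm : ∀ (X : G) (bx : ℕ), X ^ 2 ^ bx = 1 →
      C * X * C⁻¹ * X⁻¹ ∈ center G → Commute C X := by
    intro X bx hX hz
    set z := C * X * C⁻¹ * X⁻¹ with hzd
    have e1 : C * X * C⁻¹ = z * X := by rw [hzd]; group
    have h2 : z ^ 2 ^ bx = 1 := by
      have : (z * X) ^ 2 ^ bx = 1 := by rw [← e1, conj_pow, hX]; group
      rwa [(Commute.mul_pow (mem_center_iff.1 hz X).symm), hX, mul_one] at this
    have hk : ∀ n : ℕ, C ^ n * X * (C ^ n)⁻¹ = z ^ n * X := by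
      intro n
      induction n with
      | zero => simp
      | succ n ih =>
        calc C ^ (n + 1) * X * (C ^ (n + 1))⁻¹ = C * (C ^ n * X * (C ^ n)⁻¹) * C⁻¹ := by
              rw [pow_succ']; group
          _ = C * (z ^ n * X) * C⁻¹ := by rw [ih]
          _ = z ^ n * (C * X * C⁻¹) := by
              rw [← mul_assoc C, mem_center_iff.1 (pow_mem hz n) C]; group
          _ = z ^ (n + 1) * X := by rw [e1, ← mul_assoc, ← pow_succ]
    have h3 : z ^ 3 ^ a = 1 := by
      have := hk (3 ^ a)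
      rwa [hC, one_mul, inv_one, mul_one, right_eq_mul] at this
    have hz1 : z = 1 := orderOf_eq_one_iff.1 (Nat.eq_one_of_dvd_coprimes
      (((Nat.coprime_primes Nat.prime_two Nat.prime_three).2 (by norm_num)).pow bx a)
      (orderOf_dvd_of_pow_eq_one h2) (orderOf_dvd_of_pow_eq_one h3))
    rw [hz1, one_mul, mul_inv_eq_iff_eq_mul] at e1
    exact e1
  have himg : ∀ (x : G) (xe : alternatingGroup (Fin 7)), (x : G ⧸ center G) = e.symm xe →
      (x ∈ center G ↔ xe = 1) := fun x xe hx => by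
    rw [← QuotientGroup.eq_one_iff, hx, map_eq_one_iff e.symm e.symm.injective]
  have hcen : ∀ (x y : G) (xe ye : alternatingGroup (Fin 7)), (x : G ⧸ center G) = e.symm xe →
      (y : G ⧸ center G) = e.symm ye → xe * ye = ye * xe → x * y * x⁻¹ * y⁻¹ ∈ center G := by
    intro x y xe ye hx hy hxy
    refine (himg _ (xe * ye * xe⁻¹ * ye⁻¹) ?_).2 (by rw [hxy]; group)
    simp only [QuotientGroup.mk_mul, QuotientGroup.mk_inv, hx, hy, map_mul, map_inv]
  have hCV : Commute C V := hcomm V b hV (hcen C V c v hCe hVe hvc.symm)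
  have hCW : Commute C W := hcomm W b' hW (hcen C W c w hCe hWe hwc.symm)
  have hVW : ¬ Commute V W := hK V W ((himg _ _ (by rw [QuotientGroup.mk_mul, hVe, ← map_mul])).2 hv)
    ((himg _ _ (by rw [QuotientGroup.mk_mul, hWe, ← map_mul])).2 hw)
    (fun h' => hv1 ((himg _ _ hVe).1 h')) (fun h' => hw1 ((himg _ _ hWe).1 h'))
    (fun h' => hvw (inv_mul_eq_one.1 ((himg _ (v⁻¹ * w) (by
      rw [QuotientGroup.mk_mul, QuotientGroup.mk_inv, hVe, hWe, map_mul, map_inv])).1 h')))
    (hcen V W v w hVe hWe hcom)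
  -- the preimage of the normaliser of `⟨c⟩`
  set x := e.symm c
  set H := (normalizer ((zpowers x : Subgroup (G ⧸ center G)) : Set (G ⧸ center G))).comap
    (QuotientGroup.mk' (center G)) with hH
  have hmemH : ∀ g : G, (g : G ⧸ center G) * x * (g : G ⧸ center G)⁻¹ ∈ zpowers x → g ∈ H := by
    intro g hg
    refine mem_comap.2 (mem_normalizer_iff.2 fun y => ?_)
    set q : G ⧸ center G := ((g : G) : G ⧸ center G)
    have hmap : (zpowers x).map (MulAut.conj q).toMonoidHom = zpowers x := by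
      rw [MonoidHom.map_zpowers]
      refine eq_of_le_of_card_ge (zpowers_le.2 hg) ?_
      rw [Nat.card_zpowers, Nat.card_zpowers, MulEquiv.coe_toMonoidHom]
      exact le_of_eq ((MulAut.conj q).orderOf_eq x).symm
    refine ⟨fun hy => hmap ▸ ⟨y, hy, rfl⟩, fun hy => ?_⟩
    obtain ⟨y', hy', e'⟩ := (hmap.symm ▸ hy : _ ∈ (zpowers x).map (MulAut.conj q).toMonoidHom)
    rwa [← (MulAut.conj q).injective e']
  have hIH : I ∈ H := hmemH I (by
    rw [hIe, ← map_inv, ← map_mul, ← map_mul, hi, map_inv]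
    exact inv_mem (mem_zpowers x))
  have hCH : C ∈ H := hmemH C (by rw [hCe, mul_inv_cancel_right]; exact mem_zpowers x)
  have hVH : V ∈ H := hmemH V (by
    rw [hVe, ← map_inv, ← map_mul, ← map_mul, hvc, mul_inv_cancel_right]; exact mem_zpowers x)
  have hWH : W ∈ H := hmemH W (by
    rw [hWe, ← map_inv, ← map_mul, ← map_mul, hwc, mul_inv_cancel_right]; exact mem_zpowers x)
  have hx1 : x ≠ 1 := fun h' => hc1 (by simpa [x] using congrArg e h')
  have hHne : H ≠ ⊤ := fun htop => by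
    have hn : normalizer ((zpowers x : Subgroup (G ⧸ center G)) : Set (G ⧸ center G)) = ⊤ := by
      rw [← map_comap_eq_self_of_surjective (QuotientGroup.mk'_surjective (center G))
        (normalizer _), ← hH, htop]
      exact map_top_of_surjective _ (QuotientGroup.mk'_surjective _)
    haveI : (zpowers x).Normal := normalizer_eq_top_iff.1 hn
    haveI : IsSimpleGroup (G ⧸ center G) :=
      e.isSimpleGroup_congr.2 (alternatingGroup.isSimpleGroup (by simp))
    rcases IsSimpleGroup.eq_bot_or_eq_top_of_normal (zpowers x) inferInstance with hb | ht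
    · exact hx1 (mem_bot.1 (hb ▸ mem_zpowers x))
    · refine not_isSolvable_quotient (G := G) (Group.isSolvable_of_comm fun p q => ?_)
      obtain ⟨k, rfl⟩ := mem_zpowers_iff.1 (ht ▸ mem_top p)
      obtain ⟨l, rfl⟩ := mem_zpowers_iff.1 (ht ▸ mem_top q)
      exact ((Commute.refl x).zpow_zpow k l).eq
  have hCI := h.central hHne hCH hVH hWH hCV hCW hVW I hIH
  have e2 : (I : G ⧸ center G) * C * (I : G ⧸ center G)⁻¹ = C := by
    rw [← QuotientGroup.mk_mul, ← hCI.eq, QuotientGroup.mk_mul, mul_inv_cancel_right]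
  rw [hIe, hCe, ← map_inv, ← map_mul, ← map_mul, hi] at e2
  have e3 : c⁻¹ = c := e.symm.injective e2
  refine hc1 ?_
  calc c = c ^ 3 * (c * c)⁻¹ := by group
    _ = 1 := by rw [hc, one_mul]; nth_rewrite 1 [← e3]; group

end CfsgLib.MinNonCA
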