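import Mathlib
import Cfsg.Agent.Lib.PF.OddOrder

/-!
Groups whose proper subgroups have abelian centralisers of noncentral elements: first facts.
-/

set_option autoImplicit false
set_option linter.style.haveILetI false

namespace CfsgLib.MinNonCA

open Subgroup

universe u v

/-- The centraliser of every noncentral element is abelian. -/
def CA (G : Type u) [Group G] : Prop :=
  ∀ x : G, x ∉ center G → IsMulCommutative (centralizer ({x} : Set G))

/-- All proper subgroups are CA-groups. -/
def PCA (G : Type u) [Group G] : Prop :=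
  ∀ H : Subgroup G, H ≠ ⊤ → CA H

variable {G : Type u} [Group G]

theorem ca_iff : CA G ↔ ∀ x a b : G, (∃ g : G, ¬ Commute x g) → Commute x a → Commute x b →
    Commute a b := by
  constructor
  · intro h x a b ⟨g, hg⟩ ha hb
    have := h x fun hx => hg (mem_center_iff.1 hx g).symm
    exact congrArg Subtype.val (this.is_comm.comm ⟨a, mem_centralizer_singleton_iff.2 ha.eq.symm⟩
      ⟨b, mem_centralizer_singleton_iff.2 hb.eq.symm⟩)
  · intro h x hx
    refine ⟨⟨fun a b => Subtype.ext (h x a.1 b.1 ?_ (mem_centralizer_singleton_iff.1 a.2).symm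
      (mem_centralizer_singleton_iff.1 b.2).symm)⟩⟩
    by_contra! hc
    exact hx (mem_center_iff.2 fun g => (hc g).symm)

theorem CA.subgroup (h : CA G) (H : Subgroup G) : CA H := by
  rw [ca_iff] at h ⊢
  intro x a b ⟨g, hg⟩ ha hb
  exact Subtype.ext (h x a b ⟨g, fun hc => hg (Subtype.ext hc.eq)⟩ (congrArg Subtype.val ha.eq)
    (congrArg Subtype.val hb.eq))

theorem CA.of_injective {G' : Type v} [Group G'] (h : CA G) (f : G' →* G)
    (hf : Function.Injective f) : CA G' := by
  rw [ca_iff] at h ⊢
  intro x a b ⟨g, hg⟩ ha hb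
  exact hf (by rw [map_mul, map_mul]
               exact h (f x) (f a) (f b) ⟨f g, fun hc => hg (hf (by rw [map_mul, map_mul]; exact hc.eq))⟩
                 (ha.map f) (hb.map f))

theorem CA.of_equiv {G' : Type v} [Group G'] (h : CA G) (e : G' ≃* G) : CA G' :=
  h.of_injective e.toMonoidHom e.injective

theorem CA.pca (h : CA G) : PCA G := fun H _ => h.subgroup H

/-- In a proper subgroup, an element commuting with two elements that do not commute is central. -/
theorem PCA.central (h : PCA G) {H : Subgroup G} (hH : H ≠ ⊤) {x a b : G} (hx : x ∈ H) (ha : a ∈ H)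
    (hb : b ∈ H) (hxa : Commute x a) (hxb : Commute x b) (hab : ¬ Commute a b) :
    ∀ g ∈ H, Commute x g := by
  intro g hg
  by_contra hc
  refine hab (congrArg Subtype.val ((ca_iff.1 (h H hH)) ⟨x, hx⟩ ⟨a, ha⟩ ⟨b, hb⟩
    ⟨⟨g, hg⟩, fun e => hc (congrArg Subtype.val e.eq)⟩ (Subtype.ext hxa.eq) (Subtype.ext hxb.eq)).eq)

/-- In a proper subgroup, the centraliser of a noncentral element is abelian. -/
theorem PCA.commute (h : PCA G) {H : Subgroup G} (hH : H ≠ ⊤) {x a b g : G} (hx : x ∈ H)
    (hg : g ∈ H) (hxg : ¬ Commute x g) (ha : a ∈ H) (hb : b ∈ H) (hxa : Commute x a)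
    (hxb : Commute x b) : Commute a b := by
  by_contra hab
  exact hxg (h.central hH hx ha hb hxa hxb hab g hg)

theorem PCA.subgroup (h : PCA G) {H : Subgroup G} (hH : H ≠ ⊤) : PCA H := (h H hH).pca

/-- An element whose centraliser is nonabelian and contained in a proper subgroup is central
there. -/
theorem PCA.centralizer_eq (h : PCA G) {H : Subgroup G} (hH : H ≠ ⊤) {x a b : G}
    (hxa : Commute x a) (hxb : Commute x b) (hab : ¬ Commute a b)
    (hle : centralizer ({x} : Set G) ≤ H) : H = centralizer ({x} : Set G) := by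
  refine le_antisymm (fun g hg => ?_) hle
  have hc : ∀ c, Commute x c → c ∈ H := fun c hc => hle (mem_centralizer_singleton_iff.2 hc.eq.symm)
  exact mem_centralizer_singleton_iff.2
    (h.central hH (hc x (Commute.refl x)) (hc a hxa) (hc b hxb) hxa hxb hab g hg).eq.symm

theorem centralizer_ne_top {x : G} (hx : x ∉ center G) : centralizer ({x} : Set G) ≠ ⊤ :=
  fun h => hx (mem_center_iff.2 fun g =>
    mem_centralizer_singleton_iff.1 (h ▸ mem_top g : g ∈ centralizer ({x} : Set G)))

variable [Finite G]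

/-- In a perfect group an element of an abelian Sylow subgroup fixed by its normaliser is
trivial. -/
theorem eq_one_of_fixed [Group.IsPerfect G] {p : ℕ} [Fact p.Prime] (P : Sylow p G)
    (hP : ∀ a ∈ (P : Subgroup G), ∀ b ∈ (P : Subgroup G), Commute a b) {y : G}
    (hy : y ∈ (P : Subgroup G))
    (hfix : ∀ n ∈ normalizer ((P : Subgroup G) : Set G), Commute n y) : y = 1 := by
  haveI : IsMulCommutative (P : Subgroup G) :=
    ⟨⟨fun a b => Subtype.ext (hP a a.2 b b.2).eq⟩⟩
  letI : CommGroup (P : Subgroup G) :=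
    { (inferInstance : Group (P : Subgroup G)) with
      mul_comm := fun a b => Subtype.ext (hP a a.2 b b.2).eq }
  have key : ∀ (k : ℕ) (g₀ : G), g₀⁻¹ * y ^ k * g₀ ∈ (P : Subgroup G) →
      g₀⁻¹ * y ^ k * g₀ = y ^ k := by
    intro k g₀ hk
    obtain ⟨n, hn, hn'⟩ := P.conj_eq_normalizer_conj_of_mem (y ^ k) g₀ (pow_mem hy k) hk
    exact hn'.trans (Commute.inv_mul_cancel ((hfix n hn).pow_right k))
  let f := MonoidHom.transfer (MonoidHom.id (P : Subgroup G))
  have h1 : f y = 1 := by
    have hle : commutator G ≤ f.ker := Abelianization.commutator_subset_ker f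
    rw [Group.IsPerfect.commutator_eq_top] at hle
    exact hle (mem_top y)
  have h2 := MonoidHom.transfer_eq_pow (MonoidHom.id (P : Subgroup G)) y key
  rw [h1] at h2
  have h3 : y ^ (P : Subgroup G).index = 1 := (congrArg Subtype.val h2).symm
  obtain ⟨j, hj⟩ := P.2 ⟨y, hy⟩
  have h4 : y ^ p ^ j = 1 := congrArg Subtype.val hj
  have hcop : (p ^ j).Coprime (P : Subgroup G).index :=
    Nat.Coprime.pow_left j ((Fact.out : p.Prime).coprime_iff_not_dvd.2 P.not_dvd_index)
  exact orderOf_eq_one_iff.1 (Nat.eq_one_of_dvd_coprimes hcop (orderOf_dvd_of_pow_eq_one h4)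
    (orderOf_dvd_of_pow_eq_one h3))

theorem not_isSolvable_normal_of_quotient {N : Subgroup G} [N.Normal] (hG : ¬ Group.IsSolvable G)
    (hQ : Group.IsSolvable (G ⧸ N)) : ¬ Group.IsSolvable N := fun hN => hG
  (solvable_of_ker_le_range N.subtype (QuotientGroup.mk' N)
    (by rw [QuotientGroup.ker_mk', Subgroup.range_subtype]))

theorem isSolvable_of_isPGroup {p : ℕ} [Fact p.Prime] (h : IsPGroup p G) : Group.IsSolvable G := by
  haveI := h.isNilpotent
  infer_instance

/-- The normaliser of a Sylow 2-subgroup of a nonsolvable group is not abelian. -/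
theorem exists_noncommute_normalizer (hG : ¬ Group.IsSolvable G) (Q : Sylow 2 G) :
    ∃ a ∈ normalizer ((Q : Subgroup G) : Set G), ∃ b ∈ normalizer ((Q : Subgroup G) : Set G),
      ¬ Commute a b := by
  haveI : Fact (Nat.Prime 2) := ⟨Nat.prime_two⟩
  by_contra! h
  have hle : normalizer ((Q : Subgroup G) : Set G) ≤ centralizer ((Q : Subgroup G) : Set G) :=
    fun a ha => mem_centralizer_iff.2 fun q hq => (h a ha q (le_normalizer hq)).eq.symm
  have hc := MonoidHom.ker_transferSylow_isComplement' Q hle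
  set N := (MonoidHom.transferSylow Q hle).ker
  have hodd : Odd (Nat.card N) := by
    rw [← Nat.not_even_iff_odd, even_iff_two_dvd]
    exact MonoidHom.not_dvd_card_ker_transferSylow Q hle
  haveI : Group.IsSolvable N := CfsgLib.PF.oddSolvable N hodd
  haveI : Group.IsSolvable (G ⧸ N) :=
    isSolvable_of_isPGroup (p := 2) (Q.2.of_equiv (hc.symm.QuotientMulEquiv.symm))
  exact not_isSolvable_normal_of_quotient hG ‹_› ‹_›

theorem normalizer_sylow_ne_top (hG : ¬ Group.IsSolvable G) (Q : Sylow 2 G) :
    normalizer ((Q : Subgroup G) : Set G) ≠ ⊤ := by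
  haveI : Fact (Nat.Prime 2) := ⟨Nat.prime_two⟩
  intro h
  haveI : (Q : Subgroup G).Normal := normalizer_eq_top_iff.1 h
  have hodd : Odd (Nat.card (G ⧸ (Q : Subgroup G))) := by
    rw [← index_eq_card, Nat.odd_iff]
    have := Q.not_dvd_index
    omega
  haveI : Group.IsSolvable (G ⧸ (Q : Subgroup G)) := CfsgLib.PF.oddSolvable _ hodd
  exact not_isSolvable_normal_of_quotient hG ‹_› (isSolvable_of_isPGroup (p := 2) Q.2)

end CfsgLib.MinNonCA
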