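import Cfsg.Agent.Lib.MinNonCA.Basic

/-!
2-groups that are CA-groups.
-/

set_option autoImplicit false
set_option linter.style.haveILetI false

namespace CfsgLib.MinNonCA

open Subgroup

universe u

variable {S : Type u} [Group S] [Finite S]

/-- A nonabelian 2-group has a noncentral element with central square and central commutators. -/
theorem exists_second_central (hS : IsPGroup 2 S) (hna : center S ≠ ⊤) :
    ∃ c : S, c ∉ center S ∧ c * c ∈ center S ∧ ∀ s, c * s * c⁻¹ * s⁻¹ ∈ center S := by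
  haveI : Fact (Nat.Prime 2) := ⟨Nat.prime_two⟩
  haveI : Nontrivial (S ⧸ center S) := QuotientGroup.nontrivial_iff.2 hna
  haveI := (hS.to_quotient (center S)).center_nontrivial
  have h2 : 2 ∣ Nat.card (center (S ⧸ center S)) := by
    obtain ⟨k, hk⟩ := ((hS.to_quotient (center S)).to_subgroup (center (S ⧸ center S))).exists_card_eq
    rw [hk]
    refine dvd_pow_self 2 fun h0 => ?_
    rw [h0, pow_zero] at hk
    have := Finite.one_lt_card (α := center (S ⧸ center S))
    omega
  obtain ⟨⟨x, hx⟩, hx2⟩ := exists_prime_orderOf_dvd_card' 2 h2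
  rw [Subgroup.orderOf_mk] at hx2
  obtain ⟨c, rfl⟩ := QuotientGroup.mk_surjective x
  have hxx : ((c : S) : S ⧸ center S) * c = 1 := by rw [← pow_two, ← hx2, pow_orderOf_eq_one]
  refine ⟨c, fun h => ?_, (QuotientGroup.eq_one_iff _).1 hxx, fun s => ?_⟩
  · rw [(QuotientGroup.eq_one_iff c).2 h, orderOf_one] at hx2
    omega
  · refine (QuotientGroup.eq_one_iff _).1 ?_
    simp only [QuotientGroup.mk_mul, QuotientGroup.mk_inv]
    rw [← mem_center_iff.1 hx (s : S ⧸ center S), mul_inv_cancel_right, mul_inv_cancel]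

/-- In a CA 2-group either all squares are central or there is an abelian subgroup of index two
inverted, modulo the centre, by the elements outside it. -/
theorem two_group_dichotomy (hS : IsPGroup 2 S) (hca : CA S) :
    (∀ x : S, x * x ∈ center S) ∨ ∃ U : Subgroup S, center S ≤ U ∧ U.index = 2 ∧
      (∀ a ∈ U, ∀ b ∈ U, Commute a b) ∧ (∃ x ∈ U, x * x ∉ center S) ∧
      ∀ s ∉ U, s * s ∈ center S ∧
        ∀ u ∈ U, (Commute s u → u ∈ center S) ∧ s * u * s⁻¹ * u ∈ center S := by
  by_cases hsq : ∀ x : S, x * x ∈ center S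
  · exact Or.inl hsq
  refine Or.inr ?_
  push Not at hsq
  obtain ⟨x, hx2⟩ := hsq
  have hca' : ∀ w a b : S, w ∉ center S → Commute w a → Commute w b → Commute a b :=
    fun w a b hw => ca_iff.1 hca w a b (by
      by_contra! hcon
      exact hw (mem_center_iff.2 fun g => (hcon g).symm))
  -- an element with central square and central commutator with `w` commutes with `w`
  have key : ∀ w y : S, w * w ∉ center S → y * y ∈ center S →
      y * w * y⁻¹ * w⁻¹ ∈ center S → Commute w y := by
    intro w y hw hy hc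
    set z := y * w * y⁻¹ * w⁻¹ with hz
    have e1 : y * w = z * w * y := by rw [hz]; group
    have e2 : w * y * (w * y) = z * (y * y) * (w * w) := by
      calc w * y * (w * y) = w * (y * w) * y := by group
        _ = w * (z * w * y) * y := by rw [e1]
        _ = (w * z) * (w * (y * y)) := by group
        _ = (z * w) * ((y * y) * w) := by rw [mem_center_iff.1 hc w, mem_center_iff.1 hy w]
        _ = z * (w * (y * y)) * w := by group
        _ = z * ((y * y) * w) * w := by rw [mem_center_iff.1 hy w]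
        _ = z * (y * y) * (w * w) := by group
    have hzy : z * (y * y) ∈ center S := mul_mem hc hy
    have h1 : Commute (w * y) (w * w) := by
      have h2 : Commute (w * y) (z * (y * y) * (w * w)) := by
        rw [← e2]; exact (Commute.refl _).mul_right (Commute.refl _)
      have h3 : Commute (w * y) ((z * (y * y))⁻¹ * (z * (y * y) * (w * w))) :=
        Commute.mul_right (Commute.inv_right (mem_center_iff.1 hzy (w * y))) h2
      rwa [inv_mul_cancel_left] at h3
    have hww : Commute (w * w) w := (Commute.refl w).mul_left (Commute.refl w)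
    have h4 : Commute w (w * y) := hca' (w * w) w (w * y) hw hww h1.symm
    have h5 : Commute w (w⁻¹ * (w * y)) := (Commute.refl w).inv_right.mul_right h4
    rwa [inv_mul_cancel_left] at h5
  set U := centralizer ({x} : Set S) with hU
  have hmemU : ∀ a, a ∈ U ↔ Commute x a := fun a =>
    ⟨fun h => (mem_centralizer_singleton_iff.1 h).symm, fun h => mem_centralizer_singleton_iff.2 h.eq.symm⟩
  have hxc : x ∉ center S := fun h => hx2 (mul_mem h h)
  have hUab : ∀ a ∈ U, ∀ b ∈ U, Commute a b := fun a ha b hb =>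
    hca' x a b hxc ((hmemU a).1 ha) ((hmemU b).1 hb)
  have hna : center S ≠ ⊤ := fun h => hxc (h ▸ mem_top x)
  obtain ⟨c, hc, hc2, hcc⟩ := exists_second_central hS hna
  have hxc' : Commute x c := key x c hx2 hc2 (hcc x)
  -- squares of elements outside `U` are central
  have hout : ∀ s ∉ U, s * s ∈ center S := by
    intro s hs
    by_contra hs2
    exact hs ((hmemU s).2 (hca' c x s hc hxc'.symm (key s c hs2 hc2 (hcc s)).symm))
  -- elements outside `U` invert `U` modulo the centre
  have hinv : ∀ s ∉ U, ∀ u ∈ U, s * u * s⁻¹ * u ∈ center S := by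
    intro s hs u hu
    have hsu : s * u ∉ U := fun h => hs (by simpa using mul_mem h (inv_mem hu))
    have hs2 : (s * s)⁻¹ ∈ center S := inv_mem (hout s hs)
    rw [show s * u * s⁻¹ * u = (s * u) * ((s * s)⁻¹ * s) * u by group,
      ← mem_center_iff.1 hs2 s,
      show (s * u) * (s * (s * s)⁻¹) * u = (s * u) * s * ((s * s)⁻¹ * u) by group,
      ← mem_center_iff.1 hs2 u,
      show (s * u) * s * (u * (s * s)⁻¹) = (s * u) * (s * u) * (s * s)⁻¹ by group]
    exact mul_mem (hout _ hsu) hs2
  have hxU : x ∈ U := (hmemU x).2 (Commute.refl x)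
  have hmul : ∀ a ∉ U, ∀ b ∉ U, a * b ∈ U := by
    intro a ha b hb
    by_contra hab
    refine hab ((hmemU _).2 (key x (a * b) hx2 (hout _ hab) ?_))
    set z1 := b * x * b⁻¹ * x with hz1d
    have hz1 : z1 ∈ center S := hinv b hb x hxU
    set z2 := a * x * a⁻¹ * x with hz2d
    have hz2 : z2 ∈ center S := hinv a ha x hxU
    have e : a * b * x * (a * b)⁻¹ * x⁻¹ = z1 * z2⁻¹ := by
      calc a * b * x * (a * b)⁻¹ * x⁻¹ = a * (z1 * x⁻¹) * a⁻¹ * x⁻¹ := by rw [hz1d]; group
        _ = (a * z1) * (x⁻¹ * a⁻¹ * x⁻¹) := by group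
        _ = (z1 * a) * (x⁻¹ * a⁻¹ * x⁻¹) := by rw [mem_center_iff.1 hz1 a]
        _ = z1 * (x * (a * x * a⁻¹))⁻¹ := by group
        _ = z1 * (x * (z2 * x⁻¹))⁻¹ := by rw [hz2d]; group
        _ = z1 * z2⁻¹ := by rw [← mul_assoc x z2, mem_center_iff.1 hz2 x]; group
    rw [e]
    exact mul_mem hz1 (inv_mem hz2)
  have hne : U ≠ ⊤ := fun h => hxc (mem_center_iff.2 fun g =>
    ((hmemU g).1 (h ▸ mem_top g)).eq.symm)
  obtain ⟨s₀, hs₀⟩ : ∃ s, s ∉ U := by
    by_contra! h
    exact hne (eq_top_iff' U |>.2 h)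
  refine ⟨U, fun z hz => (hmemU z).2 (mem_center_iff.1 hz x), ?_, hUab, ⟨x, hxU, hx2⟩,
    fun s hs => ⟨hout s hs, fun u hu => ⟨fun hsu => ?_, hinv s hs u hu⟩⟩⟩
  · refine index_eq_two_iff.2 ⟨s₀, fun b => ?_⟩
    by_cases hb : b ∈ U
    · exact Or.inr ⟨hb, fun h => hs₀ ((U.mul_mem_cancel_left hb).1 h)⟩
    · exact Or.inl ⟨hmul b hb s₀ hs₀, hb⟩
  · by_contra hu'
    exact hs ((hmemU s).2 (hca' u x s hu' (hUab u hu x hxU) hsu.symm))

end CfsgLib.MinNonCA
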