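import Cfsg.Agent.Lib.MinNonCA.Radical
import Cfsg.Agent.Lib.MinNonCA.TwoGroup
import Cfsg.Agent.Lib.InvChar.SmallSolvable

/-!
Perfect groups with all proper subgroups CA: the solvable radical is the centre.
-/

set_option autoImplicit false
set_option linter.style.haveILetI false
set_option linter.unusedSectionVars false

namespace CfsgLib.MinNonCA

open Subgroup
open scoped IsMulCommutative commutatorElement

universe u

variable {G : Type u} [Group G]

/-- Three subgroups: what acts trivially on a perfect subgroup modulo its centre centralises it. -/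
theorem commute_of_trivial_mod (K : Subgroup G) [Group.IsPerfect K] {g : G}
    (h : ∀ k ∈ K, g * k * g⁻¹ * k⁻¹ ∈ K ∧ ∀ k' ∈ K, Commute (g * k * g⁻¹ * k⁻¹) k') :
    ∀ k ∈ K, Commute g k := by
  let f : K →* center K :=
    { toFun := fun k => ⟨⟨g * k * g⁻¹ * (k : G)⁻¹, (h k k.2).1⟩, mem_center_iff.2 fun k' =>
        Subtype.ext ((h k k.2).2 k' k'.2).eq.symm⟩
      map_one' := Subtype.ext (Subtype.ext (by simp))
      map_mul' := fun a b => Subtype.ext (Subtype.ext (by
        show g * (a * b : G) * g⁻¹ * (a * b : G)⁻¹ =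
          g * (a : G) * g⁻¹ * (a : G)⁻¹ * (g * (b : G) * g⁻¹ * (b : G)⁻¹)
        calc g * (a * b : G) * g⁻¹ * (a * b : G)⁻¹
            = g * (a : G) * g⁻¹ * ((g * (b : G) * g⁻¹ * (b : G)⁻¹) * (a : G)⁻¹) := by group
          _ = g * (a : G) * g⁻¹ * ((a : G)⁻¹ * (g * (b : G) * g⁻¹ * (b : G)⁻¹)) := by
              rw [((h b b.2).2 _ (inv_mem a.2)).eq]
          _ = _ := by group)) }
  intro k hk
  have hle : commutator K ≤ f.ker := Abelianization.commutator_subset_ker f
  rw [Group.IsPerfect.commutator_eq_top] at hle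
  have e : g * k * g⁻¹ * k⁻¹ = 1 :=
    congrArg (fun z : center K => ((z : K) : G)) (hle (mem_top (⟨k, hk⟩ : K)))
  exact mul_inv_eq_iff_eq_mul.1 (mul_inv_eq_one.1 e)

/-- In a perfect group, what is central modulo the centre is central. -/
theorem mem_center_of_trivial_mod [Group.IsPerfect G] {g : G}
    (h : ∀ k : G, g * k * g⁻¹ * k⁻¹ ∈ center G) : g ∈ center G := by
  haveI : Group.IsPerfect (⊤ : Subgroup G) := Group.IsPerfect.top_iff.2 ‹_›
  exact mem_center_iff.2 fun k => (commute_of_trivial_mod ⊤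
    (fun k _ => ⟨mem_top _, fun k' _ => (mem_center_iff.1 (h k) k').symm⟩) k (mem_top k)).eq.symm

variable [Finite G]

theorem exists_derived_not_le {R M : Subgroup G} [Group.IsSolvable R] (h : ¬ R ≤ M) :
    ∃ i, ¬ (derivedSeries R i).map R.subtype ≤ M ∧ (derivedSeries R (i + 1)).map R.subtype ≤ M := by
  classical
  have hex : ∃ i, (derivedSeries R i).map R.subtype ≤ M := by
    obtain ⟨n, hn⟩ := Group.IsSolvable.solvable (G := R)
    exact ⟨n, by rw [hn, Subgroup.map_bot]; exact bot_le⟩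
  obtain ⟨i, hi⟩ : ∃ i, Nat.find hex = i + 1 := by
    refine Nat.exists_eq_succ_of_ne_zero fun h0 => h ?_
    have := Nat.find_spec hex
    rwa [h0, derivedSeries_zero, ← MonoidHom.range_eq_map, Subgroup.range_subtype] at this
  exact ⟨i, Nat.find_min hex (by omega), hi ▸ Nat.find_spec hex⟩

/-- The input from induction: a proper subgroup with a nonsolvable normal solvable part has it
central. -/
def CentralRadicals (G : Type u) [Group G] : Prop :=
  ∀ K : Subgroup G, K ≠ ⊤ → ¬ Group.IsSolvable K → Group.IsPerfect K →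
    ∀ W : Subgroup K, W.Normal → Group.IsSolvable W → W ≤ center K

theorem exists_perfect_le {M : Subgroup G} (hM : ¬ Group.IsSolvable M) :
    ∃ K : Subgroup G, K ≤ M ∧ M ≤ normalizer (K : Set G) ∧ ¬ Group.IsSolvable K ∧
      Group.IsPerfect K := by
  classical
  obtain ⟨K, hKM, hmin⟩ := wellFounded_lt.has_min
    {K : Subgroup G | K ≤ M ∧ M ≤ normalizer (K : Set G) ∧ ¬ Group.IsSolvable K}
    ⟨M, le_rfl, le_normalizer, hM⟩
  refine ⟨K, hKM.1, hKM.2.1, hKM.2.2, Subgroup.isPerfect_iff.2 ?_⟩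
  by_contra hne
  have hle : ⁅K, K⁆ ≤ K := by
    rw [← map_subtype_commutator]; exact map_subtype_le _
  have hnorm : M ≤ normalizer ((⁅K, K⁆ : Subgroup G) : Set G) := fun m hm => by
    have hK : Subgroup.map (MulAut.conj m).toMonoidHom K = K := by
      refine le_antisymm ?_ fun x hx => ?_
      · rintro _ ⟨x, hx, rfl⟩
        exact (mem_normalizer_iff.1 (hKM.2.1 hm) x).1 hx
      · exact ⟨m⁻¹ * x * m, (mem_normalizer_iff''.1 (hKM.2.1 hm) x).1 hx, by simp [mul_assoc]⟩
    have h2 : Subgroup.map (MulAut.conj m).toMonoidHom ⁅K, K⁆ = ⁅K, K⁆ := by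
      rw [map_commutator, hK]
    refine mem_normalizer_iff.2 fun x => ⟨fun hx => h2 ▸ ⟨x, hx, rfl⟩, fun hx => ?_⟩
    obtain ⟨y, hy, e⟩ := (h2.symm ▸ hx : m * x * m⁻¹ ∈ Subgroup.map (MulAut.conj m).toMonoidHom ⁅K, K⁆)
    rwa [← (MulAut.conj m).injective e]
  refine hmin ⁅K, K⁆ ⟨hle.trans hKM.1, hnorm, fun hs => hKM.2.2 ?_⟩ (lt_of_le_of_ne hle hne)
  rw [← map_subtype_commutator] at hs
  haveI := hs
  haveI : Group.IsSolvable (commutator K) :=
    Group.isSolvable_of_surjective
      (f := ((commutator K).equivMapOfInjective K.subtype K.subtype_injective).symm.toMonoidHom)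
      (MulEquiv.surjective _)
  haveI : Group.IsSolvable (K ⧸ commutator K) := Group.isSolvable_of_comm fun a b =>
    mul_comm (G := Abelianization K) a b
  exact Group.isSolvable_of_ker_le_range (commutator K).subtype (QuotientGroup.mk' (commutator K))
    (by rw [QuotientGroup.ker_mk', Subgroup.range_subtype])

theorem not_le_center_of_not_isSolvable {K : Subgroup G} (hK : ¬ Group.IsSolvable K) :
    ∃ a ∈ K, ∃ b ∈ K, ¬ Commute a b := by
  by_contra! h
  exact hK (Group.isSolvable_of_comm fun a b => Subtype.ext (h a a.2 b b.2).eq)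

/-- A solvable normal subgroup of `G` lying in a nonsolvable proper subgroup is central there. -/
theorem central_in_proper (h : PCA G) (hIH : CentralRadicals G) {R M : Subgroup G} [R.Normal]
    [Group.IsSolvable R] (hM : M ≠ ⊤) (hMns : ¬ Group.IsSolvable M) {w : G} (hwR : w ∈ R)
    (hwM : w ∈ M) : ∀ g ∈ M, Commute w g := by
  obtain ⟨K, hKM, hKn, hKns, hKp⟩ := exists_perfect_le hMns
  have hK : K ≠ ⊤ := fun e => hM (top_le_iff.1 (e ▸ hKM))
  haveI := hKp
  let f : R.subgroupOf K →* R :=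
    { toFun := fun x => ⟨((x : K) : G), x.2⟩, map_one' := rfl, map_mul' := fun _ _ => rfl }
  have hW : R.subgroupOf K ≤ center K := hIH K hK hKns hKp _ inferInstance
    (Group.isSolvable_of_isSolvable_injective (f := f)
      fun a b e => Subtype.ext (Subtype.ext (congrArg Subtype.val e :)))
  obtain ⟨a, ha, b, hb, hab⟩ := not_le_center_of_not_isSolvable hKns
  have hc : ∀ k ∈ K, Commute w k := commute_of_trivial_mod K fun k hk => by
    have h1 : w * k * w⁻¹ * k⁻¹ ∈ K :=
      mul_mem ((mem_normalizer_iff.1 (hKn hwM) k).1 hk) (inv_mem hk)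
    have h2 : w * k * w⁻¹ * k⁻¹ ∈ R := by
      rw [show w * k * w⁻¹ * k⁻¹ = w * (k * w⁻¹ * k⁻¹) by group]
      exact mul_mem hwR (Subgroup.Normal.conj_mem inferInstance _ (inv_mem hwR) k)
    exact ⟨h1, fun k' hk' => (congrArg Subtype.val (mem_center_iff.1
      (hW (show (⟨_, h1⟩ : K) ∈ R.subgroupOf K from h2)) ⟨k', hk'⟩)).symm⟩
  exact h.central hM hwM (hKM ha) (hKM hb) (hc a ha) (hc b hb) hab

variable [Group.IsPerfect G] [Nontrivial G]

theorem not_isSolvable_perfect : ¬ Group.IsSolvable G := Group.IsPerfect.not_isSolvable G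

theorem eq_top_of_isSolvable_quotient {N : Subgroup G} [N.Normal] (h : Group.IsSolvable (G ⧸ N)) :
    N = ⊤ := by
  by_contra hN
  haveI : Nontrivial (G ⧸ N) := QuotientGroup.nontrivial_iff.2 hN
  haveI : Group.IsPerfect (G ⧸ N) :=
    Group.IsPerfect.ofSurjective (QuotientGroup.mk'_surjective N)
  exact Group.IsPerfect.not_isSolvable _ h

/-- A solvable normal subgroup lying in no maximal-type complement is nilpotent. -/
theorem isNilpotent_radical (h : PCA G) (hIH : CentralRadicals G)
    (hN : ∀ N : Subgroup G, N.Normal → N ≠ ⊤ → Group.IsSolvable N) {R : Subgroup G} [R.Normal]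
    (hR : R ≠ ⊤) (hmax : ∀ N : Subgroup G, N.Normal → N ≠ ⊤ → N ≤ R) : Group.IsNilpotent R := by
  haveI : Group.IsSolvable R := hN R inferInstance hR
  by_cases hf : R ≤ frattini G
  · haveI := frattini_nilpotent (G := G)
    exact Group.nilpotent_of_mulEquiv (Subgroup.subgroupOfEquivOfLe hf)
  obtain ⟨M, hM, hRM⟩ : ∃ M : Subgroup G, IsCoatom M ∧ ¬ R ≤ M := by
    by_contra! hcon
    exact hf (le_iInf fun M => le_iInf fun hM => hcon M hM)
  have hjoin : R ⊔ M = ⊤ := hM.2 _ (lt_of_le_of_ne le_sup_right fun e => hRM (e ▸ le_sup_left))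
  have hMns : ¬ Group.IsSolvable M := fun hs => hR (eq_top_of_isSolvable_quotient (by
    haveI := hs
    refine Group.isSolvable_of_surjective (f := (QuotientGroup.mk' R).comp M.subtype) fun x => ?_
    obtain ⟨g, rfl⟩ := QuotientGroup.mk_surjective x
    have hg : g ∈ M ⊔ R := by rw [sup_comm, hjoin]; exact mem_top g
    rw [← SetLike.mem_coe, mul_normal M R] at hg
    obtain ⟨m, hm, r, hr, rfl⟩ := hg
    exact ⟨⟨m, hm⟩, (QuotientGroup.mk_mul_of_mem m hr).symm⟩))
  obtain ⟨i, hi0, hi1⟩ := exists_derived_not_le hRM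
  set N0 := (derivedSeries R i).map R.subtype with hN0
  set N1 := (derivedSeries R (i + 1)).map R.subtype with hN1
  haveI : N0.Normal := inferInstance
  haveI : N1.Normal := inferInstance
  have hN0R : N0 ≤ R := map_subtype_le _
  have hN1R : N1 ≤ R := map_subtype_le _
  have hcM := fun w (hwR : w ∈ R) (hwM : w ∈ M) => central_in_proper h hIH hM.1 hMns hwR hwM
  have hN1c : N1 ≤ center G := fun w hw => by
    have htop : centralizer (N1 : Set G) = ⊤ := by
      by_contra hne
      have hle : M ≤ centralizer (N1 : Set G) := fun m hm => mem_centralizer_iff.2 fun x hx =>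
        (hcM x (hN1R hx) (hi1 hx) m hm).eq
      haveI := hN _ inferInstance hne
      exact hMns (Group.isSolvable_of_isSolvable_injective
        (f := Subgroup.inclusion hle) (Subgroup.inclusion_injective hle))
    exact mem_center_iff.2 fun g =>
      (mem_centralizer_iff.1 (htop ▸ mem_top g : g ∈ centralizer (N1 : Set G)) w hw).symm
  have hN0M : N0 ⊔ M = ⊤ := hM.2 _ (lt_of_le_of_ne le_sup_right fun e => hi0 (e ▸ le_sup_left))
  obtain ⟨K, hKM, -, hKns, hKp⟩ := exists_perfect_le hMns
  have hKne : K ≠ ⊤ := fun e => hM.1 (top_le_iff.1 (e ▸ hKM))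
  haveI : Fact (Nat.Prime 2) := ⟨Nat.prime_two⟩
  obtain ⟨Q⟩ : Nonempty (Sylow 2 K) := inferInstance
  obtain ⟨a, ha, b, hb, hab⟩ := exists_noncommute_normalizer hKns Q
  set S := (normalizer ((Q : Subgroup K) : Set K)).map K.subtype with hS
  have hSK : S ≤ K := map_subtype_le _
  have hw : ∀ w ∈ R, w ∈ M → w ∈ center G := by
    intro w hwR hwM
    set H := N0 ⊔ (S ⊔ zpowers w) with hH
    have hHne : H ≠ ⊤ := fun e => by
      have hSR : S ⊔ R = ⊤ := top_le_iff.1 (e ▸ sup_le (hN0R.trans le_sup_right)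
        (sup_le le_sup_left ((zpowers_le.2 hwR).trans le_sup_right)))
      apply normalizer_sylow_ne_top hKns Q
      refine eq_top_iff.2 ?_
      have hdec : ∀ k : K, ∃ s ∈ normalizer ((Q : Subgroup K) : Set K), s⁻¹ * k ∈ center K := by
        intro k
        have hk : (k : G) ∈ S ⊔ R := hSR ▸ mem_top _
        rw [← SetLike.mem_coe, mul_normal S R] at hk
        obtain ⟨_, ⟨s, hs, rfl⟩, r, hr, e⟩ := hk
        refine ⟨s, hs, mem_center_iff.2 fun g => Subtype.ext ?_⟩
        have hrK : ((s⁻¹ * k : K) : G) = r := by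
          simp only [Subgroup.coe_mul, Subgroup.coe_inv]
          rw [← e]; simp
        have := central_in_proper h hIH hKne hKns (hrK.symm ▸ hr) (s⁻¹ * k).2 g g.2
        exact this.eq.symm
      calc (⊤ : Subgroup K) = commutator K := Group.IsPerfect.commutator_eq_top.symm
        _ ≤ _ := by
          rw [commutator_eq_closure, closure_le]
          rintro _ ⟨x, y, rfl⟩
          obtain ⟨s, hs, hx⟩ := hdec x
          obtain ⟨t, ht, hy⟩ := hdec y
          set z := s⁻¹ * x
          set z' := t⁻¹ * y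
          have ex : x = s * z := by simp [z]
          have ey : y = t * z' := by simp [z']
          have hcz : ∀ g, Commute z g := fun g => (mem_center_iff.1 hx g).symm
          have hcz' : ∀ g, Commute z' g := fun g => (mem_center_iff.1 hy g).symm
          have e : ⁅x, y⁆ = ⁅s, t⁆ := by
            rw [commutatorElement_def, commutatorElement_def, ex, ey]
            calc s * z * (t * z') * (s * z)⁻¹ * (t * z')⁻¹
                = s * (z * (t * z')) * z⁻¹ * s⁻¹ * z'⁻¹ * t⁻¹ := by group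
              _ = s * ((t * z') * z) * z⁻¹ * s⁻¹ * z'⁻¹ * t⁻¹ := by rw [(hcz (t * z')).eq]
              _ = s * t * (z' * s⁻¹) * z'⁻¹ * t⁻¹ := by group
              _ = s * t * (s⁻¹ * z') * z'⁻¹ * t⁻¹ := by rw [(hcz' s⁻¹).eq]
              _ = s * t * s⁻¹ * t⁻¹ := by group
          rw [e]
          exact mul_mem (mul_mem (mul_mem hs ht) (inv_mem hs)) (inv_mem ht)
    have hwH : w ∈ H := mem_sup_right (mem_sup_right (mem_zpowers w))
    have haH : (a : G) ∈ H := mem_sup_right (mem_sup_left ⟨a, ha, rfl⟩)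
    have hbH : (b : G) ∈ H := mem_sup_right (mem_sup_left ⟨b, hb, rfl⟩)
    have hc := h.central hHne hwH haH hbH (hcM w hwR hwM _ (hKM a.2)) (hcM w hwR hwM _ (hKM b.2))
      fun e => hab (Subtype.ext e.eq)
    have hle : N0 ⊔ M ≤ centralizer ({w} : Set G) := sup_le
      (fun x hx => mem_centralizer_singleton_iff.2 (hc x (mem_sup_left hx)).eq.symm)
      (fun x hx => mem_centralizer_singleton_iff.2 (hcM w hwR hwM x hx).eq.symm)
    rw [hN0M] at hle
    exact mem_center_iff.2 fun g => mem_centralizer_singleton_iff.1 (hle (mem_top g))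
  have hdec : ∀ r ∈ R, ∃ n ∈ N0, n⁻¹ * r ∈ center G := fun r hr => by
    have h1 : r ∈ N0 ⊔ M := hN0M ▸ mem_top r
    rw [← SetLike.mem_coe, normal_mul N0 M] at h1
    obtain ⟨n, hn, m, hm, rfl⟩ := h1
    refine ⟨n, hn, hw _ (mul_mem (inv_mem (hN0R hn)) hr) ?_⟩
    simpa using hm
  -- all commutators in `R` are central
  have hcomm : commutator R ≤ center R := by
    rw [commutator_eq_closure, closure_le]
    rintro _ ⟨x, y, rfl⟩
    obtain ⟨n, hn, hx⟩ := hdec x x.2
    obtain ⟨n', hn', hy⟩ := hdec y y.2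
    obtain ⟨n0, hn0, hn0e⟩ := hn
    obtain ⟨n0', hn0', hn0e'⟩ := hn'
    have hc1 : ((⁅n0, n0'⁆ : R) : G) ∈ center G :=
      hN1c ⟨⁅n0, n0'⁆, by
        rw [derivedSeries_succ]; exact commutator_mem_commutator hn0 hn0', rfl⟩
    have e : ((⁅x, y⁆ : R) : G) = ((⁅n0, n0'⁆ : R) : G) := by
      simp only [commutatorElement_def, Subgroup.coe_mul, Subgroup.coe_inv]
      change R.subtype n0 = n at hn0e
      change R.subtype n0' = n' at hn0e'
      simp only [Subgroup.coe_subtype] at hn0e hn0e'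
      rw [hn0e, hn0e']
      set z := n⁻¹ * (x : G) with hz
      set z' := n'⁻¹ * (y : G) with hz'
      rw [show (x : G) = n * z by rw [hz, mul_inv_cancel_left],
        show (y : G) = n' * z' by rw [hz', mul_inv_cancel_left]]
      calc n * z * (n' * z') * (n * z)⁻¹ * (n' * z')⁻¹
          = n * (z * (n' * z')) * z⁻¹ * n⁻¹ * z'⁻¹ * n'⁻¹ := by group
        _ = n * ((n' * z') * z) * z⁻¹ * n⁻¹ * z'⁻¹ * n'⁻¹ := by rw [mem_center_iff.1 hx (n' * z')]
        _ = n * n' * (z' * n⁻¹) * z'⁻¹ * n'⁻¹ := by group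
        _ = n * n' * (n⁻¹ * z') * z'⁻¹ * n'⁻¹ := by rw [mem_center_iff.1 hy n⁻¹]
        _ = n * n' * n⁻¹ * n'⁻¹ := by group
    refine mem_center_iff.2 fun g => Subtype.ext ?_
    show (g : G) * ((⁅x, y⁆ : R) : G) = ((⁅x, y⁆ : R) : G) * g
    rw [e]
    exact mem_center_iff.1 hc1 _
  haveI : Group.IsNilpotent (Abelianization R) := inferInstance
  exact Subgroup.isNilpotent_of_ker_le_center (Abelianization.of (G := R))
    (by rw [Abelianization.ker_of]; exact hcomm)

/-- In a perfect group with all proper subgroups CA and all proper normal subgroups solvable,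
proper normal subgroups are central. -/
theorem le_center_of_normal (h : PCA G) (hIH : CentralRadicals G)
    (hN : ∀ N : Subgroup G, N.Normal → N ≠ ⊤ → Group.IsSolvable N) :
    ∀ N : Subgroup G, N.Normal → N ≠ ⊤ → N ≤ center G := by
  classical
  obtain ⟨R, ⟨hRn, hRne⟩, hRmax⟩ := wellFounded_gt.has_min
    {N : Subgroup G | N.Normal ∧ N ≠ ⊤} ⟨⊥, inferInstance, bot_ne_top⟩
  haveI := hRn
  haveI : Group.IsSolvable R := hN R hRn hRne
  have hmax : ∀ N : Subgroup G, N.Normal → N ≠ ⊤ → N ≤ R := by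
    intro N hNn hNne
    by_contra hle
    haveI := hNn
    haveI := hN N hNn hNne
    have htop : R ⊔ N = ⊤ := by
      by_contra hne
      exact hRmax (R ⊔ N) ⟨inferInstance, hne⟩ (lt_of_le_of_ne le_sup_left fun e => hle (e ▸ le_sup_right))
    refine hRne (eq_top_of_isSolvable_quotient (Group.isSolvable_of_surjective
      (f := (QuotientGroup.mk' R).comp N.subtype) fun x => ?_))
    obtain ⟨g, rfl⟩ := QuotientGroup.mk_surjective x
    have hg : g ∈ N ⊔ R := by rw [sup_comm, htop]; exact mem_top g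
    rw [← SetLike.mem_coe, mul_normal N R] at hg
    obtain ⟨m, hm, r, hr, rfl⟩ := hg
    exact ⟨⟨m, hm⟩, (QuotientGroup.mk_mul_of_mem m hr).symm⟩
  suffices hRZ : R ≤ center G from fun N hNn hNne => (hmax N hNn hNne).trans hRZ
  haveI : Nontrivial (G ⧸ R) := QuotientGroup.nontrivial_iff.2 hRne
  have hsimple : IsSimpleGroup (G ⧸ R) := ⟨fun W hW => by
    haveI := hW
    rcases em (W.comap (QuotientGroup.mk' R) = ⊤) with he | hne
    · refine Or.inr ?_
      rw [← map_comap_eq_self_of_surjective (QuotientGroup.mk'_surjective R) W, he]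
      exact map_top_of_surjective _ (QuotientGroup.mk'_surjective R)
    · refine Or.inl ?_
      rw [← map_comap_eq_self_of_surjective (QuotientGroup.mk'_surjective R) W, Subgroup.map_eq_bot_iff,
        QuotientGroup.ker_mk']
      exact hmax _ inferInstance hne⟩
  have hnsolv : ¬ Group.IsSolvable (G ⧸ R) := fun hs => hRne (eq_top_of_isSolvable_quotient hs)
  have hnil := isNilpotent_radical h hIH hN hRne hmax
  by_contra hRZ
  -- a noncentral normal p-subgroup
  obtain ⟨p, hp, P0, hP0p, hP0n, hP0R, hP0Z⟩ : ∃ p : ℕ, p.Prime ∧ ∃ P0 : Subgroup G,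
      IsPGroup p P0 ∧ P0.Normal ∧ P0 ≤ R ∧ ¬ P0 ≤ center G := by
    by_contra! hcon
    refine hRZ fun x hx => ?_
    have hind : ((center G).subgroupOf R).index = 1 := by
      by_contra hne
      obtain ⟨p, hp, hpd⟩ := Nat.exists_prime_and_dvd hne
      haveI := Fact.mk hp
      obtain ⟨Q⟩ : Nonempty (Sylow p R) := inferInstance
      haveI : (Q : Subgroup R).Normal := CfsgLib.Solvable.EigenChain.sylow_normal hnil Q
      haveI : (Q : Subgroup R).Characteristic := Q.characteristic_of_normal ‹_›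
      have hle : ((Q : Subgroup R).map R.subtype) ≤ center G :=
        hcon p hp _ (Q.2.map _) inferInstance (map_subtype_le _)
      exact Q.not_dvd_index (hpd.trans (index_dvd_of_le fun y hy => hle ⟨y, hy, rfl⟩))
    have := index_eq_one.1 hind
    exact (this ▸ mem_top (⟨x, hx⟩ : R) : (⟨x, hx⟩ : R) ∈ (center G).subgroupOf R)
  obtain ⟨P, ⟨hPp, hPn, hPR, hPZ⟩, hPmin⟩ := wellFounded_lt.has_min
    {P : Subgroup G | IsPGroup p P ∧ P.Normal ∧ P ≤ R ∧ ¬ P ≤ center G}
    ⟨P0, hP0p, hP0n, hP0R, hP0Z⟩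
  haveI := hPn
  have hmin : ∀ W : Subgroup G, W.Normal → W ≤ P → W ≠ P → W ≤ center G := fun W hW hWP hne => by
    by_contra hWZ
    exact hPmin W ⟨hPp.to_le hWP, hW, hWP.trans hPR, hWZ⟩ (lt_of_le_of_ne hWP hne)
  have hcomm : ⁅P, R⁆ ≤ center G := by
    have hle : ⁅P, R⁆ ≤ P := commutator_le_left P R
    refine hmin _ inferInstance hle fun e => hPZ ?_
    obtain ⟨n, hn⟩ := (Subgroup.isNilpotent_iff_lowerCentralSeries (S := R)).1 hnil
    have hall : ∀ k, P ≤ R.lowerCentralSeries k := by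
      intro k
      induction k with
      | zero => exact hPR
      | succ k ih =>
        rw [Subgroup.lowerCentralSeries_succ, ← e]
        exact commutator_mono ih le_rfl
    exact ((hall n).trans (le_of_eq hn)).trans bot_le
  let C0 : Subgroup G :=
    (centralizer ((P.map (QuotientGroup.mk' (center G))) : Set (G ⧸ center G))).comap
      (QuotientGroup.mk' (center G))
  have hC0 : ∀ g, g ∈ C0 ↔ ∀ y ∈ P, g * y * g⁻¹ * y⁻¹ ∈ center G := by
    intro g
    simp only [C0, mem_comap, mem_centralizer_iff, SetLike.mem_coe, mem_map,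
      forall_exists_index, and_imp, forall_apply_eq_imp_iff₂]
    refine forall₂_congr fun y _ => ?_
    rw [← QuotientGroup.eq_one_iff]
    simp only [QuotientGroup.mk'_apply, QuotientGroup.mk_mul, QuotientGroup.mk_inv]
    rw [mul_inv_eq_one, mul_inv_eq_iff_eq_mul, eq_comm]
  haveI : (P.map (QuotientGroup.mk' (center G))).Normal :=
    hPn.map _ (QuotientGroup.mk'_surjective _)
  have hC0ne : C0 ≠ ⊤ := fun e => hPZ fun y hy => mem_center_of_trivial_mod fun k => by
    have := (hC0 k).1 (e ▸ mem_top k) y hy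
    have h2 := inv_mem this
    rwa [show (k * y * k⁻¹ * y⁻¹)⁻¹ = y * k * y⁻¹ * k⁻¹ by group] at h2
  have hset : Setting R P p := ⟨h, hsimple, hnsolv, inferInstance, hp, hPp, hPn, hPR,
    fun g hg => hmax C0 inferInstance hC0ne ((hC0 g).2 hg),
    fun y hy r hr => by
      have := inv_mem (hcomm (commutator_mem_commutator hy hr))
      rwa [commutatorElement_def, show (y * r * y⁻¹ * r⁻¹)⁻¹ = r * y * r⁻¹ * y⁻¹ by group] at this⟩
  obtain rfl : p = 2 := hset.prime_eq_two
  have hnab := hset.not_abelian hnil hPZ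
  haveI : Fact (Nat.Prime 2) := ⟨Nat.prime_two⟩
  obtain ⟨S⟩ : Nonempty (Sylow 2 G) := inferInstance
  have hPS : P ≤ (S : Subgroup G) := by
    obtain ⟨T, hT⟩ := hPp.exists_le_sylow
    obtain ⟨g, rfl⟩ := MulAction.exists_smul_eq G T S
    intro y hy
    rw [Sylow.coe_subgroup_smul, mem_pointwise_smul_iff_inv_smul_mem]
    exact hT (by simpa using hPn.conj_mem y hy g⁻¹)
  have hSne : (S : Subgroup G) ≠ ⊤ := fun e => not_isSolvable_perfect (G := G) (by
    have h2 := S.2
    rw [e] at h2
    exact isSolvable_of_isPGroup (p := 2) (h2.of_equiv Subgroup.topEquiv))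
  have hZP : ∀ e ∈ P, (∀ y ∈ P, Commute e y) → e ∈ center G := by
    intro e he hey
    refine hmin (P ⊓ centralizer (P : Set G)) inferInstance inf_le_left (fun e' => hnab fun a ha b hb => ?_)
      ⟨he, mem_centralizer_iff.2 fun y hy => (hey y hy).eq.symm⟩
    exact (mem_centralizer_iff.1 (e'.symm ▸ ha : a ∈ P ⊓ centralizer (P : Set G)).2 b hb).symm
  rcases two_group_dichotomy S.2 (h _ hSne) with hsq | ⟨U, -, hU2, hUab, -, hUout⟩
  · -- squares are central: `S` acts trivially
    have hSR : (S : Subgroup G) ≤ R := fun s hs => hset.cen s fun y hy => by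
      refine hZP _ (mul_mem (hPn.conj_mem y hy s) (inv_mem hy)) fun y' hy' => ?_
      have hcen : (⟨s, hs⟩ : (S : Subgroup G)) * ⟨y, hPS hy⟩ * (⟨s, hs⟩ : (S : Subgroup G))⁻¹ *
          (⟨y, hPS hy⟩ : (S : Subgroup G))⁻¹ ∈ center (S : Subgroup G) := by
        set a : (S : Subgroup G) := ⟨s, hs⟩
        set b : (S : Subgroup G) := ⟨y, hPS hy⟩
        rw [show a * b * a⁻¹ * b⁻¹ = a * b * (a * b) * (b⁻¹ * ((a * a)⁻¹ * b⁻¹)) by group,
          ← mem_center_iff.1 (inv_mem (hsq a)) b⁻¹, ← mul_assoc b⁻¹ b⁻¹ ((a * a)⁻¹)]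
        exact mul_mem (hsq _) (mul_mem (by rw [← mul_inv_rev]; exact inv_mem (hsq b)) (inv_mem (hsq a)))
      exact (congrArg Subtype.val (mem_center_iff.1 hcen ⟨y', hPS hy'⟩)).symm
    refine hnsolv (CfsgLib.PF.oddSolvable _ ?_)
    rw [← index_eq_card, ← Nat.not_even_iff_odd, even_iff_two_dvd]
    exact fun h2 => S.not_dvd_index (h2.trans (index_dvd_of_le hSR))
  · set W0 := P ⊓ U.map (S : Subgroup G).subtype with hW0
    have hmemW : ∀ y (hy : y ∈ P), y ∈ W0 ↔ (⟨y, hPS hy⟩ : (S : Subgroup G)) ∈ U := fun y hy =>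
      ⟨fun hy' => by obtain ⟨u, hu, rfl⟩ := hy'.2; exact hu, fun hu => ⟨hy, _, hu, rfl⟩⟩
    have hW0ab : ∀ a ∈ W0, ∀ b ∈ W0, Commute a b := by
      rintro _ ⟨-, a, ha, rfl⟩ _ ⟨-, b, hb, rfl⟩
      exact congrArg Subtype.val (hUab a ha b hb).eq
    have hW0m : ∀ a ∈ P, ∀ b ∈ P, a ∉ W0 → b ∉ W0 → a * b ∈ W0 := fun a ha b hb ha' hb' => by
      rw [hmemW _ (mul_mem ha hb)]
      exact (mul_mem_iff_of_index_two hU2 (a := (⟨a, hPS ha⟩ : (S : Subgroup G)))
        (b := ⟨b, hPS hb⟩)).2 (iff_of_false (fun h' => ha' ((hmemW a ha).2 h'))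
          (fun h' => hb' ((hmemW b hb).2 h')))
    have hnormal : W0.Normal := by
      refine ⟨fun w hw g => ?_⟩
      by_contra hgw
      -- the conjugate subgroup
      set W := W0.map (MulAut.conj g).toMonoidHom with hW
      have hgwW : g * w * g⁻¹ ∈ W := ⟨w, hw, rfl⟩
      have hWP : W ≤ P := by
        rintro _ ⟨x, hx, rfl⟩
        exact hPn.conj_mem x hx.1 g
      have hWab : ∀ a ∈ W, ∀ b ∈ W, Commute a b := by
        rintro _ ⟨a, ha, rfl⟩ _ ⟨b, hb, rfl⟩
        exact (hW0ab a ha b hb).map _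
      have hWm : ∀ a ∈ P, ∀ b ∈ P, a ∉ W → b ∉ W → a * b ∈ W := by
        intro a ha b hb ha' hb'
        refine ⟨(g⁻¹ * a * g) * (g⁻¹ * b * g), hW0m _ (by simpa using hPn.conj_mem a ha g⁻¹) _
          (by simpa using hPn.conj_mem b hb g⁻¹) (fun h' => ha' ⟨_, h', by simp [mul_assoc]⟩)
          (fun h' => hb' ⟨_, h', by simp [mul_assoc]⟩), by simp [mul_assoc]⟩
      set c := g * w * g⁻¹ with hc
      have hcP : c ∈ P := hPn.conj_mem w hw.1 g
      have hI : ∀ e ∈ P, e ∈ W0 → e ∈ W → e ∈ center G := fun e he he0 he1 => hZP e he fun y hy => by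
        by_cases hy0 : y ∈ W0
        · exact hW0ab e he0 y hy0
        · have h1 := hW0m y hy c hcP hy0 hgw
          have h2 : Commute e (y * c * c⁻¹) :=
            (hW0ab e he0 _ h1).mul_right (hWab e he1 c hgwW).inv_right
          rwa [mul_inv_cancel_right] at h2
      -- the image of `P` modulo the centre has at most four elements
      set Pb := P.map (QuotientGroup.mk' (center G)) with hPb
      have hcard : Nat.card Pb ≤ 4 := by
        have hrep : ∀ x : Pb, ∃ y ∈ P, (QuotientGroup.mk' (center G)) y = x := fun x => x.2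
        choose rep hrepP hrep using hrep
        let F : Pb → Bool × Bool := fun x => (decide (rep x ∈ W0), decide (rep x ∈ W))
        have hF : Function.Injective F := fun x x' e => by
          simp only [F, Prod.mk.injEq, decide_eq_decide] at e
          have same : ∀ (V : Subgroup G), (∀ a ∈ P, ∀ b ∈ P, a ∉ V → b ∉ V → a * b ∈ V) →
              (rep x ∈ V ↔ rep x' ∈ V) → (rep x)⁻¹ * rep x' ∈ V := by
            intro V hV hiff
            by_cases hx : rep x ∈ V
            · exact mul_mem (inv_mem hx) (hiff.1 hx)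
            · exact hV _ (inv_mem (hrepP x)) _ (hrepP x') (fun h' => hx (by simpa using inv_mem h'))
                (fun h' => hx (hiff.2 h'))
          refine Subtype.ext ?_
          rw [← hrep x, ← hrep x']
          exact QuotientGroup.eq.2 (hI _ (mul_mem (inv_mem (hrepP x)) (hrepP x'))
            (same W0 hW0m e.1) (same W hWm e.2))
        calc Nat.card Pb ≤ Nat.card (Bool × Bool) := Nat.card_le_card_of_injective F hF
          _ = 4 := by simp
      haveI : Pb.Normal := hPn.map _ (QuotientGroup.mk'_surjective _)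
      let φ : G →* Equiv.Perm Pb :=
        (MulAut.toPerm Pb).comp ((MulAut.conjNormal (H := Pb)).comp (QuotientGroup.mk' (center G)))
      haveI := CfsgLib.InvCharSmall.isSolvable_perm_of_card_le_four hcard
      have hker : φ.ker = ⊤ := eq_top_of_isSolvable_quotient
        (Group.isSolvable_of_isSolvable_injective (QuotientGroup.kerLift_injective φ))
      refine hC0ne (top_le_iff.1 fun k _ => (hC0 k).2 fun y hy => ?_)
      have hk : φ k = 1 := (hker ▸ mem_top k : k ∈ φ.ker)
      have := congrArg (fun f : Equiv.Perm Pb => ((f ⟨_, ⟨y, hy, rfl⟩⟩ : Pb) : G ⧸ center G)) hk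
      rw [← QuotientGroup.eq_one_iff, QuotientGroup.mk_mul, QuotientGroup.mk_inv, mul_inv_eq_one]
      exact this
    have hW0c : W0 ≤ center G := hmin W0 hnormal inf_le_left fun e => hnab fun a ha b hb =>
      hW0ab a (e.symm ▸ ha) b (e.symm ▸ hb)
    refine hnab fun a ha b hb => ?_
    by_cases ha' : a ∈ W0
    · exact (mem_center_iff.1 (hW0c ha') b).symm
    by_cases hb' : b ∈ W0
    · exact mem_center_iff.1 (hW0c hb') a
    have h1 : Commute a (a⁻¹ * b) := mem_center_iff.1 (hW0c (hW0m _ (inv_mem ha) _ hb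
      (fun h' => ha' (by simpa using inv_mem h')) hb')) a
    have h2 := (Commute.refl a).mul_right h1
    rwa [mul_inv_cancel_left] at h2

end CfsgLib.MinNonCA
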