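import Cfsg.Agent.Lib.MinNonCA.Basic
import Cfsg.Agent.Lib.AutOrbits.Basic
import Cfsg.Agent.Lib.Coprime.HyperplaneGeneration
import Cfsg.Agent.Lib.CoreKill.Applications
import Cfsg.Agent.Lib.PCore.Basic
import Cfsg.Agent.S1221
import Cfsg.Agent.S1230

/-!
Simple groups with elementary abelian Sylow 2-subgroups of order at least eight in which the odd
elements centralising an involution commute: `PSL₂(2ⁿ)`.
-/

set_option autoImplicit false
set_option linter.style.haveILetI false
set_option linter.unusedSectionVars false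

namespace CfsgLib.MinNonCA

open Subgroup CfsgLib.Involutions

universe u

variable {T : Type u} [Group T] [Finite T] (S : Sylow 2 T)
variable (h2 : ∀ s ∈ (S : Subgroup T), s * s = 1)
variable (hodd : ∀ a ∈ (S : Subgroup T), a ≠ 1 → ∀ x y : T, Odd (orderOf x) → Odd (orderOf y) →
  Commute a x → Commute a y → Commute x y)
include h2

theorem elementary_commute {a b : T} (ha : a ∈ (S : Subgroup T)) (hb : b ∈ (S : Subgroup T)) :
    Commute a b := by
  have h1 := h2 a ha
  have h3 := h2 b hb
  have h4 := h2 (a * b) (mul_mem ha hb)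
  calc a * b = a * (a * b * (a * b)) * b := by rw [h4, mul_one]
    _ = (a * a) * (b * a) * (b * b) := by group
    _ = b * a := by rw [h1, h3, one_mul, mul_one]

include hodd

/-- A subgroup consisting of the odd-order elements centralising `a`, and the decomposition of
the centraliser. -/
theorem exists_theta {a : T} (ha : a ∈ (S : Subgroup T)) (ha1 : a ≠ 1) :
    ∃ θ : Subgroup T, (∀ x, x ∈ θ ↔ Odd (orderOf x) ∧ Commute a x) ∧
      (S : Subgroup T) ≤ normalizer (θ : Set T) ∧
      ∀ c : T, Commute a c → ∃ o ∈ θ, ∃ s ∈ (S : Subgroup T), c = o * s := by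
  haveI : Fact (Nat.Prime 2) := ⟨Nat.prime_two⟩
  let θ : Subgroup T :=
    { carrier := {x | Odd (orderOf x) ∧ Commute a x}
      one_mem' := ⟨by rw [orderOf_one]; exact odd_one, Commute.one_right a⟩
      mul_mem' := fun {x y} hx hy => ⟨(hx.1.mul hy.1).of_dvd_nat
        ((hodd a ha ha1 x y hx.1 hy.1 hx.2 hy.2).orderOf_mul_dvd_mul_orderOf), hx.2.mul_right hy.2⟩
      inv_mem' := fun {x} hx => ⟨by rw [orderOf_inv]; exact hx.1, hx.2.inv_right⟩ }
  have hconj : ∀ g x : T, Commute a g → x ∈ θ → g * x * g⁻¹ ∈ θ := fun g x hg hx =>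
    ⟨by rw [orderOf_conj_eq]; exact hx.1, (hg.mul_right hx.2).mul_right hg.inv_right⟩
  have hnorm : ∀ g : T, Commute a g → g ∈ normalizer (θ : Set T) := fun g hg =>
    mem_normalizer_iff.2 fun x => ⟨hconj g x hg, fun hx => by
      have := hconj g⁻¹ _ hg.inv_right hx
      simpa [mul_assoc] using this⟩
  refine ⟨θ, fun x => Iff.rfl, fun s hs => hnorm s (elementary_commute S h2 ha hs), fun c hc => ?_⟩
  -- the quotient by `θ` is a 2-group
  set C := centralizer ({a} : Set T) with hC
  have hmem : ∀ {x}, x ∈ C ↔ Commute a x := fun {x} =>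
    ⟨fun h => (mem_centralizer_singleton_iff.1 h).symm, fun h => mem_centralizer_singleton_iff.2 h.eq.symm⟩
  have hSC : (S : Subgroup T) ≤ C := fun s hs => hmem.2 (elementary_commute S h2 ha hs)
  haveI hθn : (θ.subgroupOf C).Normal := ⟨fun x hx g => by
    simp only [mem_subgroupOf, Subgroup.coe_mul, Subgroup.coe_inv] at hx ⊢
    exact hconj g x (hmem.1 g.2) hx⟩
  have hq : IsPGroup 2 (C ⧸ θ.subgroupOf C) := by
    intro z
    obtain ⟨x, rfl⟩ := QuotientGroup.mk_surjective z
    obtain ⟨k, m, hm, hord⟩ :=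
      Nat.exists_eq_pow_mul_and_not_dvd (orderOf_pos (x : T)).ne' 2 (by norm_num)
    refine ⟨k, ?_⟩
    rw [← QuotientGroup.mk_pow, QuotientGroup.eq_one_iff, mem_subgroupOf]
    refine ⟨?_, ((hmem.1 x.2).pow_right _)⟩
    rw [SubmonoidClass.coe_pow, orderOf_pow, hord, Nat.gcd_mul_right_left,
      Nat.mul_div_cancel_left _ (pow_pos two_pos k)]
    exact Nat.odd_iff.2 (by omega)
  set SC : Sylow 2 C := S.subtype hSC
  have hsur := QuotientGroup.mk'_surjective (θ.subgroupOf C)
  have htop : ((SC.mapSurjective hsur : Sylow 2 (C ⧸ θ.subgroupOf C)) :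
      Subgroup (C ⧸ θ.subgroupOf C)) = ⊤ :=
    ((SC.mapSurjective hsur).3 (hq.to_subgroup ⊤) le_top).symm
  have hc' : QuotientGroup.mk' (θ.subgroupOf C) ⟨c, hmem.2 hc⟩ ∈
      ((SC.mapSurjective hsur : Sylow 2 (C ⧸ θ.subgroupOf C)) : Subgroup (C ⧸ θ.subgroupOf C)) := by
    rw [htop]; exact mem_top _
  rw [Sylow.coe_mapSurjective] at hc'
  obtain ⟨s, hs, hse⟩ := hc'
  have hsS : (s : T) ∈ (S : Subgroup T) := by simpa [SC, mem_subgroupOf] using hs
  have hθ : (s : T)⁻¹ * c ∈ θ := by
    have := QuotientGroup.eq.1 hse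
    simpa [mem_subgroupOf] using this
  exact ⟨(s : T) * ((s : T)⁻¹ * c) * (s : T)⁻¹, hconj s _ (elementary_commute S h2 ha hsS) hθ,
    s, hsS, by group⟩

/-- The centraliser of an involution of `S` is `S`. -/
theorem centralizer_le_sylow [IsSimpleGroup T] (hns : ¬ Group.IsSolvable T)
    (h8 : 8 ≤ Nat.card (S : Subgroup T)) {a : T} (ha : a ∈ (S : Subgroup T)) (ha1 : a ≠ 1) :
    centralizer ({a} : Set T) ≤ (S : Subgroup T) := by
  classical
  haveI : Fact (Nat.Prime 2) := ⟨Nat.prime_two⟩
  haveI : IsMulCommutative (S : Subgroup T) :=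
    ⟨⟨fun x y => Subtype.ext (elementary_commute S h2 x.2 y.2).eq⟩⟩
  have hSel : Cfsg.IsElementaryAbelian 2 (S : Subgroup T) :=
    ⟨inferInstance, fun x hx => by rw [pow_two, h2 x hx]⟩
  have hS1 : (S : Subgroup T) ≠ ⊥ := fun e => ha1 (mem_bot.1 (e ▸ ha))
  let Y : Set T := {y | Odd (orderOf y) ∧ ∃ B : Subgroup T, B ≤ (S : Subgroup T) ∧
    B.relIndex (S : Subgroup T) = 2 ∧ ∀ b ∈ B, Commute b y}
  -- the pieces commute
  have hY : ∀ y ∈ Y, ∀ y' ∈ Y, Commute y y' := by
    rintro y ⟨hy, B, hB, hB2, hBy⟩ y' ⟨hy', B', hB', hB2', hBy'⟩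
    obtain ⟨e, ⟨heB, heB'⟩, he1⟩ : ∃ e, (e ∈ B ∧ e ∈ B') ∧ e ≠ 1 := by
      by_contra! hcon
      have hinj : Function.Injective (fun p : B × B' =>
          (⟨p.1 * p.2, mul_mem (hB p.1.2) (hB' p.2.2)⟩ : (S : Subgroup T))) := by
        intro p q hpq
        have e : (p.1 : T) * p.2 = q.1 * q.2 := congrArg Subtype.val hpq
        have e2 : (q.1 : T)⁻¹ * p.1 = q.2 * (p.2 : T)⁻¹ := by
          calc (q.1 : T)⁻¹ * p.1 = (q.1 : T)⁻¹ * ((p.1 : T) * p.2) * (p.2 : T)⁻¹ := by group
            _ = _ := by rw [e]; group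
        have h1 := hcon _ ⟨mul_mem (inv_mem q.1.2) p.1.2,
          e2 ▸ mul_mem q.2.2 (inv_mem p.2.2)⟩
        have h11 : (q.1 : T) = p.1 := by rwa [inv_mul_eq_one] at h1
        rw [h11] at e
        exact Prod.ext (Subtype.ext h11.symm) (Subtype.ext (mul_left_cancel e))
      have hle := Nat.card_le_card_of_injective _ hinj
      rw [Nat.card_prod] at hle
      have c1 : 2 * Nat.card B = Nat.card (S : Subgroup T) := by
        have := relIndex_mul_relIndex ⊥ B (S : Subgroup T) bot_le hB
        rw [relIndex_bot_left, relIndex_bot_left, hB2] at this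
        omega
      have c2 : 2 * Nat.card B' = Nat.card (S : Subgroup T) := by
        have := relIndex_mul_relIndex ⊥ B' (S : Subgroup T) bot_le hB'
        rw [relIndex_bot_left, relIndex_bot_left, hB2'] at this
        omega
      have : Nat.card B = Nat.card B' := by omega
      rw [← this] at hle
      nlinarith
    exact hodd e (hB heB) he1 y y' hy hy' (hBy e heB) (hBy' e heB')
  set W := closure Y with hW
  haveI hWab : IsMulCommutative W := isMulCommutative_closure fun x hx y hy => (hY x hx y hy).eq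
  have hWodd : ∀ x ∈ W, Odd (orderOf x) := by
    intro x hx
    induction hx using closure_induction with
    | mem x hx => exact hx.1
    | one => rw [orderOf_one]; exact odd_one
    | mul x y hx hy ihx ihy =>
      exact (ihx.mul ihy).of_dvd_nat (Commute.orderOf_mul_dvd_mul_orderOf
        (congrArg Subtype.val (hWab.is_comm.comm ⟨x, hx⟩ ⟨y, hy⟩) : x * y = y * x))
    | inv x _ ih => rwa [orderOf_inv]
  -- what normalises `S` normalises `W`
  have hNW : normalizer ((S : Subgroup T) : Set T) ≤ normalizer (W : Set T) := by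
    have hY' : ∀ g ∈ normalizer ((S : Subgroup T) : Set T), ∀ y ∈ Y, g * y * g⁻¹ ∈ Y := by
      rintro g hg y ⟨hy, B, hB, hB2, hBy⟩
      refine ⟨by rw [orderOf_conj_eq]; exact hy, B.map (MulAut.conj g).toMonoidHom, ?_, ?_, ?_⟩
      · rintro _ ⟨b, hb, rfl⟩
        exact (mem_normalizer_iff.1 hg b).1 (hB hb)
      · have hS' : (S : Subgroup T).map (MulAut.conj g).toMonoidHom = (S : Subgroup T) := by
          refine eq_of_le_of_card_ge ?_ ?_
          · rintro _ ⟨b, hb, rfl⟩
            exact (mem_normalizer_iff.1 hg b).1 hb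
          · rw [card_map_of_injective (MulAut.conj g).injective]
        conv_lhs => rw [← hS']
        rw [relIndex_map_map_of_injective _ _ (MulAut.conj g).injective, hB2]
      · rintro _ ⟨b, hb, rfl⟩
        exact (hBy b hb).map (MulAut.conj g).toMonoidHom
    intro g hg
    have hsub : ∀ g ∈ normalizer ((S : Subgroup T) : Set T), ∀ x ∈ W, g * x * g⁻¹ ∈ W := by
      intro g hg x hx
      induction hx using closure_induction with
      | mem x hx => exact subset_closure (hY' g hg x hx)
      | one => simp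
      | mul x y _ _ ihx ihy =>
        have := mul_mem ihx ihy
        simpa [mul_assoc] using this
      | inv x _ ih =>
        have := inv_mem ih
        simpa [mul_assoc] using this
    exact mem_normalizer_iff.2 fun x => ⟨hsub g hg x, fun hx => by
      have := hsub g⁻¹ (inv_mem hg) _ hx
      simpa [mul_assoc] using this⟩
  -- `θ(b) ≤ W`
  have hθW : ∀ b ∈ (S : Subgroup T), b ≠ 1 → ∀ x, Odd (orderOf x) → Commute b x → x ∈ W := by
    intro b hb hb1 x hx hbx
    obtain ⟨θ, hθ, hSθ, -⟩ := exists_theta S h2 hodd hb hb1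
    have hodd' : Odd (Nat.card θ) := by
      rw [← Nat.not_even_iff_odd, even_iff_two_dvd]
      intro h
      obtain ⟨y, hy⟩ := exists_prime_orderOf_dvd_card' 2 h
      have h' := ((hθ _).1 y.2).1
      rw [Subgroup.orderOf_coe, hy] at h'
      exact absurd h' (by decide)
    have hgen := CfsgLib.Coprime39.eq_hyperCent (p := 2) hSel hS1 (Nat.coprime_two_right.2 hodd') hSθ
    have hle : CfsgLib.Coprime39.hyperCent 2 (S : Subgroup T) θ ≤ W := by
      refine iSup_le fun ⟨B, hB, hB2⟩ => ?_
      rintro y ⟨hy, hyB⟩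
      exact subset_closure ⟨((hθ y).1 hy).1, B, hB, hB2, fun c hc => mem_centralizer_iff.1 hyB c hc⟩
    exact hle (hgen.symm ▸ (hθ x).2 ⟨hx, hbx⟩)
  have hCW : ∀ b ∈ (S : Subgroup T), b ≠ 1 → centralizer ({b} : Set T) ≤ normalizer (W : Set T) := by
    intro b hb hb1 c hc
    obtain ⟨θ, hθ, -, hdec⟩ := exists_theta S h2 hodd hb hb1
    obtain ⟨o, ho, s, hs, rfl⟩ := hdec c (mem_centralizer_singleton_iff.1 hc).symm
    exact mul_mem (le_normalizer (hθW b hb hb1 o ((hθ o).1 ho).1 ((hθ o).1 ho).2))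
      (hNW (le_normalizer hs))
  -- `W = 1`
  have hWbot : W = ⊥ := by
    by_contra hne
    have hMne : normalizer (W : Set T) ≠ ⊤ := fun e => by
      haveI : W.Normal := normalizer_eq_top_iff.1 e
      rcases IsSimpleGroup.eq_bot_or_eq_top_of_normal W inferInstance with hb | htop
      · exact hne hb
      · exact hns (Group.isSolvable_of_comm fun x y => congrArg Subtype.val
          (hWab.is_comm.comm ⟨x, htop ▸ mem_top x⟩ ⟨y, htop ▸ mem_top y⟩))
    have hse : Cfsg.IsStronglyEmbedded (normalizer (W : Set T)) :=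
      CfsgLib.AutOrbits.isStronglyEmbedded_of hMne S (fun x hx y hy => elementary_commute S h2 hx hy)
        (by
          by_contra h2'
          exact hns (CfsgLib.PF.oddSolvable T (Nat.odd_iff.2 (by omega))))
        (fun t ht ht2 => hCW t ht fun e => by rw [e, orderOf_one] at ht2; omega) hNW
    haveI hWn : (W.subgroupOf (normalizer (W : Set T))).Normal := Subgroup.normal_in_normalizer
    have hWodd' : Odd (Nat.card (W.subgroupOf (normalizer (W : Set T)))) := by
      rw [← Nat.not_even_iff_odd, even_iff_two_dvd]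
      intro h
      obtain ⟨y, hy⟩ := exists_prime_orderOf_dvd_card' 2 h
      have h' := hWodd _ (mem_subgroupOf.1 y.2)
      rw [Subgroup.orderOf_coe, Subgroup.orderOf_coe, hy] at h'
      exact absurd h' (by decide)
    have hle := (Subgroup.map_mono (CfsgLib.PCore.le_pPrimeCore hWn
      (Nat.coprime_two_right.2 hWodd'))).trans (Cfsg.Agent.S1221.result _ hse)
    rw [subgroupOf_map_subtype, inf_eq_left.2 le_normalizer,
      CfsgLib.CoreKill.oddCore_eq_bot_of_simple (orderOf_eq_two_iff_mul.2 ⟨ha1, h2 a ha⟩)] at hle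
    exact hne (le_bot_iff.1 hle)
  intro c hc
  obtain ⟨θ, hθ, -, hdec⟩ := exists_theta S h2 hodd ha ha1
  obtain ⟨o, ho, s, hs, rfl⟩ := hdec c (mem_centralizer_singleton_iff.1 hc).symm
  have ho1 : o = 1 := mem_bot.1 (hWbot ▸ hθW a ha ha1 o ((hθ o).1 ho).1 ((hθ o).1 ho).2)
  rwa [ho1, one_mul]

/-- The group is `PSL₂(F)` with `|F| = |S|`. -/
theorem psl_two_of_elementary [IsSimpleGroup T] (hns : ¬ Group.IsSolvable T)
    (h8 : 8 ≤ Nat.card (S : Subgroup T)) :
    ∃ (F : Type) (_ : Field F) (_ : Fintype F), Fintype.card F = Nat.card (S : Subgroup T) ∧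
      Nonempty (T ≃* Matrix.ProjectiveSpecialLinearGroup (Fin 2) F) := by
  haveI : Fact (Nat.Prime 2) := ⟨Nat.prime_two⟩
  refine Cfsg.Agent.S1230.result S (fun hc => ?_) (fun hn => ?_) fun t ht => ?_
  · haveI := hc
    have he : Monoid.exponent (S : Subgroup T) ∣ 2 := Monoid.exponent_dvd_of_forall_pow_eq_one
      fun x => Subtype.ext (by
        show (x : T) ^ 2 = 1
        rw [pow_two, h2 x x.2])
    rw [IsCyclic.exponent_eq_card] at he
    have := Nat.le_of_dvd two_pos he
    omega
  · exact normalizer_sylow_ne_top hns S (normalizer_eq_top_iff.2 hn)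
  · obtain ⟨P, hP⟩ := (IsPGroup.of_card (n := 1) (by rw [Nat.card_zpowers, ht, pow_one]) :
      IsPGroup 2 (zpowers t)).exists_le_sylow
    obtain ⟨g, rfl⟩ := MulAction.exists_smul_eq T P S
    have hgt : g * t * g⁻¹ ∈ ((g • P : Sylow 2 T) : Subgroup T) := by
      rw [Sylow.coe_subgroup_smul]; exact ⟨t, hP (mem_zpowers t), rfl⟩
    have hgt1 : g * t * g⁻¹ ≠ 1 := fun e => by
      rw [conj_eq_one_iff] at e; rw [e, orderOf_one] at ht; omega
    have hle := centralizer_le_sylow (g • P) h2 hodd hns h8 hgt hgt1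
    have hin : ∀ c, c ∈ centralizer ({t} : Set T) →
        g * c * g⁻¹ ∈ ((g • P : Sylow 2 T) : Subgroup T) := fun c hc => hle (by
      refine mem_centralizer_singleton_iff.2 ?_
      have := (Commute.map (mem_centralizer_singleton_iff.1 hc : Commute c t) (MulAut.conj g).toMonoidHom).eq
      simpa using this)
    refine ⟨⟨⟨fun x y => Subtype.ext ?_⟩⟩, fun c hc => ?_⟩
    · refine (MulAut.conj g).injective ?_
      simp only [Subgroup.coe_mul, map_mul, MulAut.conj_apply]
      exact (elementary_commute (g • P) h2 (hin _ x.2) (hin _ y.2)).eq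
    · refine (MulAut.conj g).injective ?_
      rw [map_pow, map_one, MulAut.conj_apply, pow_two]
      exact h2 _ (hin c hc)

end CfsgLib.MinNonCA
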