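import Cfsg.Agent.Lib.MinNonCA.AbelianSylow
import Cfsg.Agent.Lib.MinNonCA.AltSeven
import Cfsg.Agent.Lib.MinNonCA.TwoGroup
import Cfsg.Agent.Lib.MinNonCA.RadicalCentral
import Cfsg.Agent.Lib.MinNonCA.TwoElementary
import Cfsg.Agent.Lib.Transfer.Basic
import Cfsg.Agent.Lib.PGroup.NormalSquare
import Cfsg.Agent.Lib.PSL2.Recognition
import Cfsg.Agent.S0215

/-!
Quasisimple groups with all proper subgroups CA and nonabelian Sylow 2-subgroups.
-/

set_option autoImplicit false
set_option linter.style.haveILetI false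
set_option linter.unusedSectionVars false

namespace CfsgLib.MinNonCA

open Subgroup CfsgLib.Involutions
open CfsgLib.GWCons.RankOneCover (DihedralClassification)

universe u

variable {G : Type u} [Group G] [Finite G]

/-- A 2-element congruent modulo the centre to an element of a Sylow 2-subgroup lies in it. -/
theorem mem_sylow_of_two (S : Sylow 2 G) {x s : G} (hx : ∃ k, x ^ 2 ^ k = 1)
    (hs : s ∈ (S : Subgroup G)) (hc : s⁻¹ * x ∈ center G) : x ∈ (S : Subgroup G) := by
  have hxp : IsPGroup 2 (zpowers x) := by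
    obtain ⟨k, hk⟩ := hx
    rintro ⟨w, hw⟩
    obtain ⟨n, rfl⟩ := mem_zpowers_iff.1 hw
    refine ⟨k, Subtype.ext ?_⟩
    show (x ^ n) ^ 2 ^ k = 1
    rw [← zpow_natCast, ← zpow_mul, mul_comm, zpow_mul, zpow_natCast, hk, one_zpow]
  have hN : zpowers x ≤ normalizer ((S : Subgroup G) : Set G) := zpowers_le.2 (by
    have h1 := mul_mem (le_normalizer (H := (S : Subgroup G)) hs)
      (show s⁻¹ * x ∈ normalizer ((S : Subgroup G) : Set G) from
        mem_normalizer_iff.2 fun w => by
          rw [← mem_center_iff.1 hc w, mul_inv_cancel_right])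
    rwa [mul_inv_cancel_left] at h1)
  exact zpowers_le.1 (by
    rw [← S.3 (S.2.to_sup_of_normal_left' hxp hN) le_sup_left]
    exact le_sup_right)

/-- A 2-subgroup of a subgroup containing a Sylow subgroup lies in a Sylow subgroup inside it. -/
theorem exists_sylow_within {M A : Subgroup G} (P0 : Sylow 2 G) (hP0 : (P0 : Subgroup G) ≤ M)
    (hA : IsPGroup 2 A) (hAM : A ≤ M) :
    ∃ P : Sylow 2 G, A ≤ (P : Subgroup G) ∧ (P : Subgroup G) ≤ M := by
  haveI : Fact (Nat.Prime 2) := ⟨Nat.prime_two⟩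
  obtain ⟨Q, hQ⟩ := (hA.comap_subtype (K := M)).exists_le_sylow
  obtain ⟨c, hc⟩ := MulAction.exists_smul_eq M (P0.subtype hP0) Q
  refine ⟨(c : G) • P0, fun a ha => ?_, fun p hp => ?_⟩
  · have h1 : (⟨a, hAM ha⟩ : M) ∈ ((c • P0.subtype hP0 : Sylow 2 M) : Subgroup M) := by
      rw [hc]; exact hQ (show ((⟨a, hAM ha⟩ : M) : G) ∈ A from ha)
    rw [Sylow.coe_subgroup_smul, mem_pointwise_smul_iff_inv_smul_mem] at h1
    rw [Sylow.coe_subgroup_smul, mem_pointwise_smul_iff_inv_smul_mem]
    simpa [mem_subgroupOf] using h1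
  · rw [Sylow.coe_subgroup_smul, mem_pointwise_smul_iff_inv_smul_mem] at hp
    have := hP0 hp
    have h2 := mul_mem (mul_mem c.2 this) (inv_mem c.2)
    simpa [mul_assoc] using h2

/-- A proper subgroup of a 2-group is properly contained in its normaliser. -/
theorem exists_normalizing {P A : Subgroup G} (hP : IsPGroup 2 P) (hAP : A ≤ P) (hne : A ≠ P) :
    ∃ x ∈ P, x ∉ A ∧ x ∈ normalizer (A : Set G) := by
  haveI : Fact (Nat.Prime 2) := ⟨Nat.prime_two⟩
  haveI := hP.isNilpotent
  have hlt : A.subgroupOf P < ⊤ := lt_top_iff_ne_top.2 fun e =>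
    hne (le_antisymm hAP (subgroupOf_eq_top.1 e))
  obtain ⟨x, hx, hxA⟩ := SetLike.exists_of_lt (Group.normalizerCondition_of_isNilpotent _ hlt)
  refine ⟨x, x.2, hxA, mem_normalizer_iff.2 fun a => ⟨fun ha => ?_, fun ha => ?_⟩⟩
  · exact mem_subgroupOf.1 ((mem_normalizer_iff.1 hx ⟨a, hAP ha⟩).1 (mem_subgroupOf.2 ha))
  · have hm : a ∈ P := by
      have := mul_mem (mul_mem (inv_mem x.2) (hAP ha)) x.2
      simpa [mul_assoc] using this
    exact mem_subgroupOf.1 ((mem_normalizer_iff.1 hx ⟨a, hm⟩).2 (mem_subgroupOf.2 ha))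

variable [Group.IsPerfect G] [Nontrivial G] [IsSimpleGroup (G ⧸ center G)]

/-- Proper normal subgroups are central. -/
theorem le_center_of_normal_simple {N : Subgroup G} [N.Normal] (hN : N ≠ ⊤) : N ≤ center G := by
  rcases IsSimpleGroup.eq_bot_or_eq_top_of_normal (N.map (QuotientGroup.mk' (center G)))
    ((inferInstance : N.Normal).map _ (QuotientGroup.mk'_surjective _)) with hb | ht
  · rwa [Subgroup.map_eq_bot_iff, QuotientGroup.ker_mk'] at hb
  · refine absurd (eq_top_of_isSolvable_quotient (Group.isSolvable_of_comm fun a b => ?_)) hN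
    have key : ∀ q : G ⧸ N, ∃ z ∈ center G, (z : G ⧸ N) = q := by
      intro q
      obtain ⟨g, rfl⟩ := QuotientGroup.mk_surjective q
      obtain ⟨n, hn, e⟩ := (ht.symm ▸ mem_top _ :
        (g : G ⧸ center G) ∈ N.map (QuotientGroup.mk' (center G)))
      refine ⟨n⁻¹ * g, QuotientGroup.eq.1 e, ?_⟩
      rw [QuotientGroup.mk_mul, QuotientGroup.mk_inv, (QuotientGroup.eq_one_iff n).2 hn, inv_one,
        one_mul]
    obtain ⟨z, hz, rfl⟩ := key a
    obtain ⟨w, -, rfl⟩ := key b
    rw [← QuotientGroup.mk_mul, ← QuotientGroup.mk_mul, mem_center_iff.1 hz w]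

theorem normalizer_ne_top {K : Subgroup G} (hne : K ≠ ⊤) {x : G} (hx : x ∈ K)
    (hxc : x ∉ center G) : normalizer (K : Set G) ≠ ⊤ := fun e => by
  haveI : K.Normal := normalizer_eq_top_iff.1 e
  exact hxc (le_center_of_normal_simple hne hx)

theorem two_group_ne_top {P : Subgroup G} (hP : IsPGroup 2 P) : P ≠ ⊤ := fun e => by
  haveI : Fact (Nat.Prime 2) := ⟨Nat.prime_two⟩
  subst e
  exact Group.IsPerfect.not_isSolvable G
    (isSolvable_of_isPGroup (p := 2) (hP.of_equiv Subgroup.topEquiv))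

/-- The key fusion lemma. -/
theorem mem_center_of_sq (h : PCA G) (S : Sylow 2 G)
    (hna : ∃ a ∈ (S : Subgroup G), ∃ b ∈ (S : Subgroup G), ¬ Commute a b) {z : G}
    (hz : z ∈ (S : Subgroup G)) (hzS : ∀ s ∈ (S : Subgroup G), Commute z s)
    (hz2 : z * z ∈ center G) : z ∈ center G := by
  classical
  haveI : Fact (Nat.Prime 2) := ⟨Nat.prime_two⟩
  by_contra hzc
  set T := S.mapSurjective (QuotientGroup.mk'_surjective (center G)) with hT
  have hu2 : orderOf (z : G ⧸ center G) = 2 := orderOf_eq_two_iff_mul.2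
    ⟨fun e => hzc ((QuotientGroup.eq_one_iff z).1 e), (QuotientGroup.eq_one_iff (z * z)).2 hz2⟩
  -- a second element of `S` fused to `z`
  obtain ⟨g, hgT, hgne⟩ : ∃ g : G, (g : G ⧸ center G) * z * (g : G ⧸ center G)⁻¹ ∈
      (T : Subgroup (G ⧸ center G)) ∧ (g : G ⧸ center G) * z * (g : G ⧸ center G)⁻¹ ≠ z := by
    by_contra! hcon
    obtain ⟨N, hN, hodd, hNc⟩ := Cfsg.Agent.S0215.result T (z : G ⧸ center G) hu2
      (show _ ∈ (T : Subgroup (G ⧸ center G)) from ⟨z, hz, rfl⟩) fun q hq => by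
        obtain ⟨g, rfl⟩ := QuotientGroup.mk_surjective q
        exact hcon g hq
    rcases IsSimpleGroup.eq_bot_or_eq_top_of_normal N hN with hb | htop
    · refine hzc (mem_center_of_trivial_mod fun k => (QuotientGroup.eq_one_iff _).1 ?_)
      have := hNc (k : G ⧸ center G)
      rw [hb, mem_bot] at this
      simpa using this
    · rw [htop, card_top] at hodd
      exact Nat.not_even_iff_odd.2 hodd (even_iff_two_dvd.2 (hu2 ▸ orderOf_dvd_natCard _))
  set t := g * z * g⁻¹ with htd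
  have htz : t⁻¹ * z ∉ center G := fun hc => hgne (by
    have := QuotientGroup.eq.2 hc
    simpa [htd] using this)
  obtain ⟨i, hi⟩ := S.2 ⟨z, hz⟩
  have hzi : z ^ 2 ^ i = 1 := congrArg Subtype.val hi
  have htS : t ∈ (S : Subgroup G) := by
    obtain ⟨s, hs, hse⟩ := hgT
    refine mem_sylow_of_two S ⟨i, by rw [htd, conj_pow, hzi]; group⟩ hs
      (QuotientGroup.eq.1 ?_)
    simpa [htd] using hse
  have hcz : Commute z t := hzS t htS
  have htc : t ∉ center G := fun hc => hzc (by
    have := (inferInstance : (center G).Normal).conj_mem t hc g⁻¹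
    simpa [htd, mul_assoc] using this)
  -- a maximal abelian 2-subgroup containing both
  obtain ⟨A, ⟨hA, hAab, hzA, htA⟩, hAmax⟩ := wellFounded_gt.has_min
    {A : Subgroup G | IsPGroup 2 A ∧ (∀ a ∈ A, ∀ b ∈ A, Commute a b) ∧ z ∈ A ∧ t ∈ A}
    ⟨closure {z, t}, S.2.to_le ((closure_le _).2 (by
        rintro x (rfl | rfl)
        exacts [hz, htS])), by
      haveI : IsMulCommutative (closure ({z, t} : Set G)) :=
        isMulCommutative_closure fun a ha b hb => by
          rcases ha with rfl | rfl <;> rcases hb with rfl | rfl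
          exacts [rfl, hcz.eq, hcz.symm.eq, rfl]
      exact fun a ha b hb => congrArg Subtype.val
        (mul_comm' (⟨a, ha⟩ : closure ({z, t} : Set G)) ⟨b, hb⟩),
      subset_closure (Or.inl rfl), subset_closure (Or.inr rfl)⟩
  set H := normalizer (A : Set G) with hH
  have hHne : H ≠ ⊤ := normalizer_ne_top (two_group_ne_top hA) hzA hzc
  -- nonabelian normalising subgroups inside the centralisers
  have grow : ∀ w ∈ A, ∀ P : Sylow 2 G, A ≤ (P : Subgroup G) →
      (∀ p ∈ (P : Subgroup G), Commute w p) →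
      (∃ a ∈ (P : Subgroup G), ∃ b ∈ (P : Subgroup G), ¬ Commute a b) →
      (∃ x ∈ (P : Subgroup G), x ∈ H ∧ ∃ a ∈ A, ¬ Commute a x) ∧ ∀ y ∈ H, Commute w y := by
    intro w hw P hAP hwP hnab
    obtain ⟨a0, ha0, b0, hb0, hab0⟩ := hnab
    obtain ⟨x, hxP, hxA, hxN⟩ := exists_normalizing P.2 hAP fun e =>
      hab0 (hAab a0 (e ▸ ha0) b0 (e ▸ hb0))
    obtain ⟨a, ha, hax⟩ : ∃ a ∈ A, ¬ Commute a x := by
      by_contra! hcon
      haveI : IsMulCommutative (closure ((A : Set G) ∪ {x})) :=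
        isMulCommutative_closure fun a ha b hb => by
          rcases ha with ha | rfl <;> rcases hb with hb | rfl
          exacts [(hAab a ha b hb).eq, (hcon a ha).eq, (hcon b hb).eq.symm, rfl]
      refine hAmax (closure ((A : Set G) ∪ {x})) ⟨P.2.to_le ((closure_le _).2
        (Set.union_subset hAP (Set.singleton_subset_iff.2 hxP))),
        fun a ha b hb => congrArg Subtype.val
          (mul_comm' (⟨a, ha⟩ : closure ((A : Set G) ∪ {x})) ⟨b, hb⟩),
        subset_closure (Or.inl hzA), subset_closure (Or.inl htA)⟩ ?_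
      exact lt_of_le_of_ne (fun a ha => subset_closure (Or.inl ha))
        fun e => hxA (e.symm ▸ subset_closure (Or.inr rfl))
    exact ⟨⟨x, hxP, hxN, a, ha, hax⟩,
      h.central hHne (le_normalizer hw) (le_normalizer ha) hxN (hwP a (hAP ha)) (hwP x hxP) hax⟩
  -- Sylow subgroups inside the two centralisers
  have hSz : (S : Subgroup G) ≤ centralizer ({z} : Set G) := fun s hs =>
    mem_centralizer_singleton_iff.2 (hzS s hs).eq.symm
  have hSt : ((g • S : Sylow 2 G) : Subgroup G) ≤ centralizer ({t} : Set G) := by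
    rw [Sylow.coe_subgroup_smul]
    rintro _ ⟨s, hs, rfl⟩
    refine mem_centralizer_singleton_iff.2 ?_
    exact ((hzS s hs).map (MulAut.conj g).toMonoidHom).eq.symm
  obtain ⟨Pz, hAPz, hPz⟩ := exists_sylow_within S hSz hA
    fun a ha => mem_centralizer_singleton_iff.2 (hAab a ha z hzA).eq
  obtain ⟨Pt, hAPt, hPt⟩ := exists_sylow_within (g • S) hSt hA
    fun a ha => mem_centralizer_singleton_iff.2 (hAab a ha t htA).eq
  have hnab : ∀ P : Sylow 2 G,
      ∃ a ∈ (P : Subgroup G), ∃ b ∈ (P : Subgroup G), ¬ Commute a b := by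
    intro P
    obtain ⟨a, ha, b, hb, hab⟩ := hna
    obtain ⟨k, rfl⟩ := MulAction.exists_smul_eq G S P
    refine ⟨k * a * k⁻¹, ?_, k * b * k⁻¹, ?_, fun e => hab ?_⟩
    · rw [Sylow.coe_subgroup_smul]; exact ⟨a, ha, rfl⟩
    · rw [Sylow.coe_subgroup_smul]; exact ⟨b, hb, rfl⟩
    · refine (MulAut.conj k).injective ?_
      simp only [map_mul, MulAut.conj_apply]
      exact e.eq
  obtain ⟨⟨x, hxPz, hxH, a, ha, hax⟩, hzH⟩ := grow z hzA Pz hAPz
    (fun p hp => (mem_centralizer_singleton_iff.1 (hPz hp)).symm) (hnab Pz)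
  obtain ⟨-, htH⟩ := grow t htA Pt hAPt
    (fun p hp => (mem_centralizer_singleton_iff.1 (hPt hp)).symm) (hnab Pt)
  set C := centralizer ({z} : Set G) ⊓ centralizer ({t} : Set G) with hC
  obtain ⟨P2, ⟨hP2, hAP2, hxP2, hP2C⟩, hP2max⟩ := wellFounded_gt.has_min
    {P : Subgroup G | IsPGroup 2 P ∧ A ≤ P ∧ x ∈ P ∧ P ≤ C}
    ⟨(Pz : Subgroup G) ⊓ H, Pz.2.to_le inf_le_left, le_inf hAPz le_normalizer, ⟨hxPz, hxH⟩,
      fun y hy => ⟨mem_centralizer_singleton_iff.2 (hzH y hy.2).eq.symm,
        mem_centralizer_singleton_iff.2 (htH y hy.2).eq.symm⟩⟩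
  -- it is a Sylow subgroup
  obtain ⟨P, hP2P, hPC⟩ := exists_sylow_within S hSz hP2 fun y hy => (hP2C hy).1
  have hP2eq : P2 = (P : Subgroup G) := by
    by_contra hne
    obtain ⟨y, hyP, hy2, hyN⟩ := exists_normalizing P.2 hP2P hne
    have hN2 : normalizer (P2 : Set G) ≠ ⊤ :=
      normalizer_ne_top (two_group_ne_top hP2) (hAP2 hzA) hzc
    have hc2 : ∀ w, w ∈ A → (∀ v ∈ H, Commute w v) → ∀ v ∈ normalizer (P2 : Set G), Commute w v :=
      fun w hw hwH => h.central hN2 (le_normalizer (hAP2 hw)) (le_normalizer (hAP2 ha))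
        (le_normalizer hxP2) (hAab w hw a ha) (hwH x hxH) hax
    refine hP2max ((P : Subgroup G) ⊓ normalizer (P2 : Set G)) ⟨P.2.to_le inf_le_left,
      hAP2.trans (le_inf hP2P le_normalizer), ⟨hP2P hxP2, le_normalizer hxP2⟩, fun v hv =>
        ⟨mem_centralizer_singleton_iff.2 (hc2 z hzA hzH v hv.2).eq.symm,
          mem_centralizer_singleton_iff.2 (hc2 t htA htH v hv.2).eq.symm⟩⟩ ?_
    exact lt_of_le_of_ne (le_inf hP2P le_normalizer) fun e => hy2 (e.symm ▸ ⟨hyP, hyN⟩)
  have hcz' : ∀ p ∈ (P : Subgroup G), Commute z p := fun p hp =>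
    (mem_centralizer_singleton_iff.1 (hP2C (hP2eq.symm ▸ hp)).1).symm
  have hct' : ∀ p ∈ (P : Subgroup G), Commute t p := fun p hp =>
    (mem_centralizer_singleton_iff.1 (hP2C (hP2eq.symm ▸ hp)).2).symm
  obtain ⟨n, hn, hne⟩ := Sylow.conj_eq_normalizer_conj_of_mem_centralizer P z g⁻¹
    (mem_centralizer_iff.2 fun p hp => (hcz' p hp).eq.symm)
    (by
      rw [inv_inv]
      exact mem_centralizer_iff.2 fun p hp => (hct' p hp).eq.symm)
  have hzn := h.central (normalizer_sylow_ne_top (Group.IsPerfect.not_isSolvable G) P)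
    (le_normalizer (hP2eq ▸ hAP2 hzA)) (le_normalizer (hP2eq ▸ hAP2 ha))
    (le_normalizer (hP2eq ▸ hxP2)) (hAab z hzA a ha) (hzH x hxH) hax n hn
  refine htz ?_
  rw [inv_inv, ← htd, mul_assoc, hzn.eq, inv_mul_cancel_left] at hne
  rw [hne, inv_mul_cancel]
  exact one_mem _

/-- What is central in a nonabelian Sylow 2-subgroup is central. -/
theorem mem_center_of_central_sylow (h : PCA G) (S : Sylow 2 G)
    (hna : ∃ a ∈ (S : Subgroup G), ∃ b ∈ (S : Subgroup G), ¬ Commute a b) {z : G}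
    (hz : z ∈ (S : Subgroup G)) (hzS : ∀ s ∈ (S : Subgroup G), Commute z s) : z ∈ center G := by
  obtain ⟨k, hk⟩ := S.2 ⟨z, hz⟩
  have hk' : z ^ 2 ^ k = 1 := congrArg Subtype.val hk
  suffices ∀ (j : ℕ) (w : G), w ∈ (S : Subgroup G) → (∀ s ∈ (S : Subgroup G), Commute w s) →
      w ^ 2 ^ j ∈ center G → w ∈ center G from this k z hz hzS (hk' ▸ one_mem _)
  intro j
  induction j with
  | zero => intro w _ _ hw; simpa using hw
  | succ j ih =>
    intro w hw hwS hwj
    refine mem_center_of_sq h S hna hw hwS (ih (w * w) (mul_mem hw hw)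
      (fun s hs => (hwS s hs).mul_left (hwS s hs)) ?_)
    rwa [← pow_two, ← pow_mul, ← pow_succ']

/-- An element moved by a central factor has abelian centraliser. -/
theorem commute_centralizer (h : PCA G) {t s : G} (ht : t ∉ center G)
    (hst : s * t * s⁻¹ * t⁻¹ ∈ center G) (hne : ¬ Commute s t) {a b : G} (hta : Commute t a)
    (htb : Commute t b) : Commute a b := by
  by_contra hab
  set z := s * t * s⁻¹ * t⁻¹ with hz
  have e1 : s * t * s⁻¹ = z * t := by rw [hz]; group
  set C := centralizer ({t} : Set G) with hC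
  have hmem : ∀ {c}, c ∈ C ↔ Commute t c := fun {c} =>
    ⟨fun h => (mem_centralizer_singleton_iff.1 h).symm,
      fun h => mem_centralizer_singleton_iff.2 h.eq.symm⟩
  have hzc : ∀ c, Commute z c := fun c => (mem_center_iff.1 hst c).symm
  have hsN : s ∈ normalizer (C : Set G) := mem_normalizer_iff.2 fun c => by
    rw [hmem, hmem]
    refine ⟨fun hc => ?_, fun hc => ?_⟩
    · have h1 : Commute (s * t * s⁻¹) (s * c * s⁻¹) := hc.map (MulAut.conj s).toMonoidHom
      rw [e1] at h1
      have h2 := (hzc (s * c * s⁻¹)).inv_left.mul_left h1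
      rwa [inv_mul_cancel_left] at h2
    · have h1 : Commute (s * t * s⁻¹) (s * c * s⁻¹) := by rw [e1]; exact (hzc _).mul_left hc
      refine (MulAut.conj s).injective ?_
      simp only [map_mul, MulAut.conj_apply]
      exact h1.eq
  set H := C ⊔ zpowers s with hH
  have htC : t ∈ C := hmem.2 (Commute.refl t)
  have hHne : H ≠ ⊤ := fun e => by
    refine normalizer_ne_top (centralizer_ne_top ht) htC ht (top_le_iff.1 ?_)
    rw [← e]
    exact sup_le le_normalizer (zpowers_le.2 hsN)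
  exact hne (h.central hHne (mem_sup_left htC) (mem_sup_left (hmem.2 hta))
    (mem_sup_left (hmem.2 htb)) hta htb hab s (mem_sup_right (mem_zpowers s))).symm

/-- All squares of `S` are central. -/
theorem shape_of_squares (hGW : DihedralClassification.{u}) (h : PCA G) (S : Sylow 2 G)
    (hna : ∃ a ∈ (S : Subgroup G), ∃ b ∈ (S : Subgroup G), ¬ Commute a b)
    (hsq : ∀ s ∈ (S : Subgroup G), s * s ∈ center G) : Shape G := by
  classical
  haveI : Fact (Nat.Prime 2) := ⟨Nat.prime_two⟩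
  set T := S.mapSurjective (QuotientGroup.mk'_surjective (center G)) with hT
  have h2 : ∀ q ∈ (T : Subgroup (G ⧸ center G)), q * q = 1 := by
    rintro _ ⟨s, hs, rfl⟩
    exact (QuotientGroup.eq_one_iff (s * s)).2 (hsq s hs)
  obtain ⟨k, hk⟩ := T.2.exists_card_eq
  have hk2 : 2 ≤ k := by
    by_contra hk1
    obtain ⟨a, ha, b, hb, hab⟩ := hna
    have hle : Nat.card (T : Subgroup (G ⧸ center G)) ≤ 2 := by
      rw [hk]; calc 2 ^ k ≤ 2 ^ 1 := Nat.pow_le_pow_right two_pos (by omega)
        _ = 2 := rfl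
    have h3 : ({1, (a : G ⧸ center G), (b : G ⧸ center G)} : Finset (G ⧸ center G)).card ≤ 2 := by
      rw [← Nat.card_eq_finsetCard]
      refine le_trans (Nat.card_le_card_of_injective
        (fun z => (⟨z.1, ?_⟩ : (T : Subgroup (G ⧸ center G))))
        fun u v huv => Subtype.ext (congrArg Subtype.val huv :)) hle
      have := z.2
      simp only [Finset.mem_insert, Finset.mem_singleton] at this
      rcases this with e | e | e <;> rw [e]
      exacts [one_mem _, ⟨a, ha, rfl⟩, ⟨b, hb, rfl⟩]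
    have n1 : (a : G ⧸ center G) ≠ 1 := fun e =>
      hab (mem_center_iff.1 ((QuotientGroup.eq_one_iff a).1 e) b).symm
    have n2 : (b : G ⧸ center G) ≠ 1 := fun e =>
      hab (mem_center_iff.1 ((QuotientGroup.eq_one_iff b).1 e) a)
    have n3 : (a : G ⧸ center G) ≠ b := fun e => hab (by
      have := (Commute.refl a).mul_right (mem_center_iff.1 (QuotientGroup.eq.1 e) a)
      rwa [mul_inv_cancel_left] at this)
    rw [Finset.card_insert_of_notMem (by simp [Ne.symm n1, Ne.symm n2]),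
      Finset.card_insert_of_notMem (by simpa using n3), Finset.card_singleton] at h3
    omega
  rcases eq_or_lt_of_le hk2 with rfl | hk3
  · haveI : IsKleinFour (T : Subgroup (G ⧸ center G)) := by
      refine ⟨hk, le_antisymm ?_ ?_⟩
      · exact Nat.le_of_dvd two_pos (Monoid.exponent_dvd_of_forall_pow_eq_one fun x =>
          Subtype.ext (by rw [SubmonoidClass.coe_pow, pow_two, h2 x x.2]; rfl))
      · by_contra hlt
        have h1 : Monoid.exponent (T : Subgroup (G ⧸ center G)) = 1 := by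
          have : 0 < Monoid.exponent (T : Subgroup (G ⧸ center G)) :=
            Monoid.exponent_pos.2 Monoid.ExponentExists.of_finite
          omega
        haveI := Monoid.exp_eq_one_iff.1 h1
        rw [Nat.card_unique] at hk
        omega
    rcases shape_of_dihedral hGW T le_rfl IsKleinFour.nonempty_mulEquiv with hs | h7
    · exact hs
    · exfalso
      obtain ⟨e7⟩ := h7
      have hmul := (T : Subgroup (G ⧸ center G)).card_mul_index
      have hodd := T.not_dvd_index
      rw [hk, Nat.card_congr e7.toEquiv, nat_card_alternatingGroup, Nat.card_fin] at hmul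
      norm_num [Nat.factorial] at hmul
      omega
  · have h8 : 8 ≤ Nat.card (T : Subgroup (G ⧸ center G)) := by
      rw [hk]
      calc 8 = 2 ^ 3 := rfl
        _ ≤ 2 ^ k := Nat.pow_le_pow_right two_pos hk3
    obtain ⟨F, hF, hFt, hcard, he⟩ := psl_two_of_elementary T h2 (by
      rintro _ ⟨t, htS, rfl⟩ hq1 x y hx hy hax hay
      have htc : t ∉ center G := fun hc => hq1 ((QuotientGroup.eq_one_iff t).2 hc)
      obtain ⟨s, hs, hst⟩ : ∃ s ∈ (S : Subgroup G), ¬ Commute s t := by
        by_contra! hcon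
        exact htc (mem_center_of_central_sylow h S hna htS fun s hs => (hcon s hs).symm)
      have hcomm : s * t * s⁻¹ * t⁻¹ ∈ center G := (QuotientGroup.eq_one_iff _).1 (by
        simp only [QuotientGroup.mk_mul, QuotientGroup.mk_inv]
        rw [(elementary_commute T h2 (a := (s : G ⧸ center G)) (b := (t : G ⧸ center G))
          ⟨s, hs, rfl⟩ ⟨t, htS, rfl⟩).eq, mul_inv_cancel_right, mul_inv_cancel])
      -- odd elements centralising `t` modulo the centre centralise `t`
      have lift : ∀ g : G, Odd (orderOf (g : G ⧸ center G)) →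
          Commute ((t : G) : G ⧸ center G) g → Commute t g := by
        intro g hg hc
        set z := g * t * g⁻¹ * t⁻¹ with hzd
        have hz : z ∈ center G := (QuotientGroup.eq_one_iff _).1 (by
          simp only [hzd, QuotientGroup.mk_mul, QuotientGroup.mk_inv]
          rw [← hc.eq, mul_inv_cancel_right, mul_inv_cancel])
        have hzc : ∀ c, Commute z c := fun c => (mem_center_iff.1 hz c).symm
        have e1 : g * t * g⁻¹ = z * t := by rw [hzd]; group
        have z2 : z * z = 1 := by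
          have : (z * t) * (z * t) = t * t := by
            rw [← e1, show g * t * g⁻¹ * (g * t * g⁻¹) = g * (t * t) * g⁻¹ by group,
              mem_center_iff.1 (hsq t htS) g, mul_inv_cancel_right]
          rwa [(hzc t).symm.mul_mul_mul_comm, mul_eq_right] at this
        have hn : ∀ n : ℕ, g ^ n * t * (g ^ n)⁻¹ = z ^ n * t := by
          intro n
          induction n with
          | zero => simp
          | succ n ih =>
            calc g ^ (n + 1) * t * (g ^ (n + 1))⁻¹ = g * (g ^ n * t * (g ^ n)⁻¹) * g⁻¹ := by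
                  rw [pow_succ']; group
              _ = g * (z ^ n * t) * g⁻¹ := by rw [ih]
              _ = z ^ n * (g * t * g⁻¹) := by
                  rw [← mul_assoc g, ← ((hzc g).pow_left n).eq]; group
              _ = z ^ (n + 1) * t := by rw [e1, ← mul_assoc, ← pow_succ]
        have hm := hn (orderOf (g : G ⧸ center G))
        have hgm : g ^ orderOf (g : G ⧸ center G) ∈ center G :=
          (QuotientGroup.eq_one_iff _).1 (by rw [QuotientGroup.mk_pow, pow_orderOf_eq_one])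
        rw [← mem_center_iff.1 hgm t, mul_inv_cancel_right, right_eq_mul] at hm
        obtain ⟨j, hj⟩ := hg
        have hz1 : z = 1 := by
          rwa [hj, pow_succ, pow_mul, pow_two, z2, one_pow, one_mul] at hm
        rw [hz1, one_mul, mul_inv_eq_iff_eq_mul] at e1
        exact e1.symm
      obtain ⟨x, rfl⟩ := QuotientGroup.mk_surjective x
      obtain ⟨y, rfl⟩ := QuotientGroup.mk_surjective y
      exact (commute_centralizer h htc hcomm hst (lift x hx hax) (lift y hy hay)).map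
        (QuotientGroup.mk' (center G))) not_isSolvable_quotient h8
    exact ⟨F, hF, hFt, hcard ▸ (by omega : 4 ≤ Nat.card (T : Subgroup (G ⧸ center G))), he⟩

/-- An abelian subgroup of index two inverted modulo the centre: dihedral central quotient. -/
theorem shape_of_index_two (hGW : DihedralClassification.{u}) (h : PCA G) (S : Sylow 2 G)
    {U : Subgroup G} (hUS : U ≤ (S : Subgroup G)) (hUi : U.relIndex (S : Subgroup G) = 2)
    (hZU : ∀ s ∈ (S : Subgroup G), s ∈ center G → s ∈ U)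
    (hUab : ∀ a ∈ U, ∀ b ∈ U, Commute a b) (hbig : ∃ x ∈ U, x * x ∉ center G)
    (hout : ∀ s ∈ (S : Subgroup G), s ∉ U → s * s ∈ center G ∧
      ∀ u ∈ U, (Commute s u → u ∈ center G) ∧ s * u * s⁻¹ * u ∈ center G) : Shape G := by
  classical
  haveI : Fact (Nat.Prime 2) := ⟨Nat.prime_two⟩
  set π := QuotientGroup.mk' (center G) with hπ
  set T := S.mapSurjective (QuotientGroup.mk'_surjective (center G)) with hT
  let φ : (S : Subgroup G) →* (T : Subgroup (G ⧸ center G)) :=
    (π.comp (S : Subgroup G).subtype).codRestrict _ fun s => ⟨s, s.2, rfl⟩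
  have hφ : Function.Surjective φ := by
    rintro ⟨_, s, hs, rfl⟩
    exact ⟨⟨s, hs⟩, rfl⟩
  have hker : φ.ker ≤ U.subgroupOf (S : Subgroup G) := fun s hs =>
    mem_subgroupOf.2 (hZU s s.2 ((QuotientGroup.eq_one_iff (s : G)).1
      (congrArg Subtype.val (MonoidHom.mem_ker.1 hs))))
  set C := (U.subgroupOf (S : Subgroup G)).map φ with hCd
  have hCi : C.index = 2 := (index_map_eq _ hφ hker).trans hUi
  have hmemC : ∀ (s : G) (hs : s ∈ (S : Subgroup G)), φ ⟨s, hs⟩ ∈ C ↔ s ∈ U := by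
    intro s hs
    refine ⟨fun hC => ?_, fun hu => ⟨_, mem_subgroupOf.2 hu, rfl⟩⟩
    obtain ⟨w, hw, e⟩ := hC
    have hk : w⁻¹ * ⟨s, hs⟩ ∈ φ.ker := by rw [MonoidHom.mem_ker, map_mul, map_inv, e, inv_mul_cancel]
    have := mem_subgroupOf.1 (mul_mem (show w ∈ U.subgroupOf (S : Subgroup G) from hw) (hker hk))
    simpa using this
  have hidx : ∀ a ∈ (S : Subgroup G), ∀ b ∈ (S : Subgroup G), a ∉ U → b ∉ U → a * b ∈ U :=
    fun a ha b hb ha' hb' => mem_subgroupOf.1 ((mul_mem_iff_of_index_two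
      (hUi : (U.subgroupOf (S : Subgroup G)).index = 2) (a := ⟨a, ha⟩) (b := ⟨b, hb⟩)).2
      (iff_of_false (fun e => ha' (mem_subgroupOf.1 e)) fun e => hb' (mem_subgroupOf.1 e)))
  obtain ⟨s₀, hs₀, hs₀U⟩ : ∃ s ∈ (S : Subgroup G), s ∉ U := by
    by_contra! hcon
    rw [relIndex_eq_one.2 hcon] at hUi
    omega
  -- fuse an outside involution into `U`
  have hu2 : ((s₀ : G) : G ⧸ center G) ^ 2 = 1 := by
    rw [pow_two]; exact (QuotientGroup.eq_one_iff (s₀ * s₀)).2 (hout s₀ hs₀ hs₀U).1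
  obtain ⟨g, htU⟩ : ∃ g : G, g * s₀ * g⁻¹ ∈ U := by
    by_contra! hcon
    obtain ⟨M, hM, hM2, hMu⟩ := CfsgLib.Transfer.thompson_transfer T
      (U.map π) (by
        show ((U.map π).subgroupOf (T : Subgroup (G ⧸ center G))).index = 2
        refine (congrArg Subgroup.index ?_).trans hCi
        ext ⟨q, hq⟩
        constructor
        · rintro ⟨u, hu, e⟩
          exact ⟨⟨u, hUS hu⟩, mem_subgroupOf.2 hu, Subtype.ext e⟩
        · rintro ⟨w, hw, e⟩
          exact ⟨w, mem_subgroupOf.1 hw, congrArg Subtype.val e⟩)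
      ((s₀ : G) : G ⧸ center G) hu2 fun q hq hqU => by
        obtain ⟨g, rfl⟩ := QuotientGroup.mk_surjective q
        obtain ⟨u, hu, e⟩ := hqU
        have hc : u⁻¹ * (g * s₀ * g⁻¹) ∈ center G := QuotientGroup.eq.1 (by
          rw [QuotientGroup.mk_mul, QuotientGroup.mk_mul, QuotientGroup.mk_inv]
          exact e)
        obtain ⟨k, hk⟩ := S.2 ⟨s₀, hs₀⟩
        have hwS : g * s₀ * g⁻¹ ∈ (S : Subgroup G) := mem_sylow_of_two S
          ⟨k, by rw [conj_pow, show s₀ ^ 2 ^ k = 1 from congrArg Subtype.val hk]; group⟩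
          (hUS hu) hc
        have := mul_mem hu (hZU _ (mul_mem (inv_mem (hUS hu)) hwS) hc)
        rw [mul_inv_cancel_left] at this
        exact hcon g this
    rcases IsSimpleGroup.eq_bot_or_eq_top_of_normal M hM with hb | htop
    · rw [hb, index_bot] at hM2
      exact not_isSolvable_quotient (G := G)
        (isSolvable_of_isPGroup (p := 2) (IsPGroup.of_card (n := 1) (by rw [hM2, pow_one])))
    · rw [htop, index_top] at hM2
      omega
  set t := g * s₀ * g⁻¹ with htd
  have hs0c : s₀ ∉ center G := fun hc => hs₀U (hZU s₀ hs₀ hc)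
  have ht2 : t * t ∈ center G := by
    rw [show t * t = g * (s₀ * s₀) * g⁻¹ by rw [htd]; group]
    exact (inferInstance : (center G).Normal).conj_mem _ (hout s₀ hs₀ hs₀U).1 g
  have htc : t ∉ center G := fun hc => hs0c (by
    have := (inferInstance : (center G).Normal).conj_mem t hc g⁻¹
    simpa [htd, mul_assoc] using this)
  -- the commutator map on the centraliser of `t` modulo the centre
  let X : Subgroup G := (centralizer ({π t} : Set (G ⧸ center G))).comap π
  have hX : ∀ c, c ∈ X ↔ c * t * c⁻¹ * t⁻¹ ∈ center G := by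
    intro c
    rw [mem_comap, mem_centralizer_singleton_iff, ← QuotientGroup.eq_one_iff]
    simp only [hπ, QuotientGroup.mk'_apply, QuotientGroup.mk_mul, QuotientGroup.mk_inv]
    rw [mul_inv_eq_one, mul_inv_eq_iff_eq_mul]
  let f : X →* center G :=
    { toFun := fun c => ⟨(c : G) * t * (c : G)⁻¹ * t⁻¹, (hX c).1 c.2⟩
      map_one' := Subtype.ext (by simp)
      map_mul' := fun a b => Subtype.ext (by
        show (a : G) * b * t * ((a : G) * b)⁻¹ * t⁻¹ =
          (a : G) * t * (a : G)⁻¹ * t⁻¹ * ((b : G) * t * (b : G)⁻¹ * t⁻¹)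
        have hb := mem_center_iff.1 ((hX b).1 b.2)
        calc (a : G) * b * t * ((a : G) * b)⁻¹ * t⁻¹
            = (a : G) * ((b : G) * t * (b : G)⁻¹ * t⁻¹) * (t * (a : G)⁻¹ * t⁻¹) := by group
          _ = ((b : G) * t * (b : G)⁻¹ * t⁻¹) * (a : G) * (t * (a : G)⁻¹ * t⁻¹) := by rw [hb a]
          _ = ((b : G) * t * (b : G)⁻¹ * t⁻¹) * ((a : G) * t * (a : G)⁻¹ * t⁻¹) := by group
          _ = _ := (hb _).symm) }
  have hf : ∀ (c : G) (hc : c ∈ X), f ⟨c, hc⟩ = 1 ↔ Commute c t := fun c hc => by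
    show (⟨c * t * c⁻¹ * t⁻¹, _⟩ : center G) = 1 ↔ _
    rw [Subtype.ext_iff]
    show c * t * c⁻¹ * t⁻¹ = 1 ↔ _
    rw [mul_inv_eq_one, mul_inv_eq_iff_eq_mul]
    exact Iff.rfl
  have hSX : (S : Subgroup G) ≤ X := fun s hs => (hX s).2 (by
    by_cases hsU : s ∈ U
    · rw [(hUab s hsU t htU).eq, mul_inv_cancel_right, mul_inv_cancel]; exact one_mem _
    · have h1 := mul_mem ((hout s hs hsU).2 t htU).2 (inv_mem ht2)
      rwa [show s * t * s⁻¹ * t * (t * t)⁻¹ = s * t * s⁻¹ * t⁻¹ by group] at h1)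
  -- only two values
  set ω := f ⟨s₀, hSX hs₀⟩ with hω
  have hω2 : ∀ s (hs : s ∈ (S : Subgroup G)), f ⟨s, hSX hs⟩ = 1 ∨ f ⟨s, hSX hs⟩ = ω := by
    intro s hs
    by_cases hsU : s ∈ U
    · exact Or.inl ((hf s _).2 (hUab s hsU t htU))
    · refine Or.inr ?_
      have h1 : f (⟨s₀, hSX hs₀⟩⁻¹ * ⟨s, hSX hs⟩) = 1 :=
        (hf _ _).2 (hUab _ (hidx _ (inv_mem hs₀) s hs
          (fun e => hs₀U (by simpa using inv_mem e)) hsU) t htU)
      rwa [map_mul, map_inv, inv_mul_eq_one, eq_comm] at h1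
  have hall : ∀ c : X, f c = 1 ∨ f c = ω := by
    let K : Subgroup X := (((S : Subgroup G).subgroupOf X).map f).comap f
    haveI : K.Normal := inferInstance
    have hSK : (S : Subgroup G).subgroupOf X ≤ K := fun s hs => ⟨s, hs, rfl⟩
    have hKo : ¬ 2 ∣ K.index := fun h2 => S.not_dvd_index (dvd_trans h2
      (dvd_trans (index_dvd_of_le hSK) (Dvd.intro _ (relIndex_mul_index hSX))))
    intro c
    have hc2 : c * c ∈ K := by
      refine mem_comap.2 ?_
      have : f (c * c) = 1 := (hf _ _).2 (by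
        show Commute ((c : G) * c) t
        set z := (c : G) * t * (c : G)⁻¹ * t⁻¹ with hzd
        have hz : z ∈ center G := (hX c).1 c.2
        have e1 : (c : G) * t * (c : G)⁻¹ = z * t := by rw [hzd]; group
        have hzz : z * z = 1 := by
          have : (z * t) * (z * t) = t * t := by
            rw [← e1, show (c : G) * t * (c : G)⁻¹ * ((c : G) * t * (c : G)⁻¹) =
              (c : G) * (t * t) * (c : G)⁻¹ by group, mem_center_iff.1 ht2 (c : G),
              mul_inv_cancel_right]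
          rwa [(show Commute t z from mem_center_iff.1 hz t).mul_mul_mul_comm, mul_eq_right]
            at this
        have e2 : (c : G) * c * t * ((c : G) * c)⁻¹ = t := by
          calc (c : G) * c * t * ((c : G) * c)⁻¹ = (c : G) * ((c : G) * t * (c : G)⁻¹) * (c : G)⁻¹ := by
                group
            _ = (c : G) * z * t * (c : G)⁻¹ := by rw [e1]; group
            _ = z * ((c : G) * t * (c : G)⁻¹) := by rw [mem_center_iff.1 hz (c : G)]; group
            _ = t := by rw [e1, ← mul_assoc, hzz, one_mul]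
        exact mul_inv_eq_iff_eq_mul.1 e2)
      rw [this]; exact one_mem _
    obtain ⟨j, hj⟩ : Odd K.index := Nat.odd_iff.2 (by omega)
    have hcK : c ∈ K := by
      have h1 := K.pow_index_mem c
      rw [hj, pow_succ, pow_mul] at h1
      exact (K.mul_mem_cancel_left (pow_mem (by rwa [pow_two]) j)).1 h1
    obtain ⟨s, hs, hse⟩ := mem_comap.1 hcK
    rcases hω2 s.1 (mem_subgroupOf.1 hs) with e | e
    · exact Or.inl (hse.symm.trans e)
    · exact Or.inr (hse.symm.trans e)
  -- at most one involution of `U` modulo the centre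
  have key : ∀ u₁ ∈ U, ∀ u₂ ∈ U, u₁ * u₁ ∈ center G → u₂ * u₂ ∈ center G → u₁ ∉ center G →
      u₂ ∉ center G → u₁⁻¹ * u₂ ∈ center G := by
    intro u₁ hu₁ u₂ hu₂ hq₁ hq₂ hn₁ hn₂
    have hin : ∀ u ∈ U, u * u ∈ center G → g * u * g⁻¹ ∈ X := by
      intro u hu hq
      refine (hX _).2 ?_
      have h1 := mul_mem ((hout s₀ hs₀ hs₀U).2 u hu).2 (inv_mem hq)
      have h2 := (inferInstance : (center G).Normal).conj_mem _ (inv_mem h1) g
      rwa [show g * (s₀ * u * s₀⁻¹ * u * (u * u)⁻¹)⁻¹ * g⁻¹ =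
        g * u * g⁻¹ * t * (g * u * g⁻¹)⁻¹ * t⁻¹ by rw [htd]; group] at h2
    have hcs : ∀ u ∈ U, ∀ hu : g * u * g⁻¹ ∈ X, f ⟨_, hu⟩ = 1 → u ∈ center G := by
      intro u hu hX' h1
      refine ((hout s₀ hs₀ hs₀U).2 u hu).1 ?_
      have h2 : Commute t (g * u * g⁻¹) := ((hf _ _).1 h1).symm
      refine (MulAut.conj g).injective ?_
      simp only [map_mul, MulAut.conj_apply]
      exact h2.eq
    have e1 := (hall ⟨_, hin u₁ hu₁ hq₁⟩).resolve_left fun e => hn₁ (hcs u₁ hu₁ _ e)
    have e2 := (hall ⟨_, hin u₂ hu₂ hq₂⟩).resolve_left fun e => hn₂ (hcs u₂ hu₂ _ e)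
    have hmem : g * (u₁⁻¹ * u₂) * g⁻¹ ∈ X := by
      have := mul_mem (inv_mem (hin u₁ hu₁ hq₁)) (hin u₂ hu₂ hq₂)
      simpa [mul_assoc] using this
    refine hcs _ (mul_mem (inv_mem hu₁) hu₂) hmem ?_
    rw [show (⟨_, hmem⟩ : X) = ⟨_, hin u₁ hu₁ hq₁⟩⁻¹ * ⟨_, hin u₂ hu₂ hq₂⟩ from
      Subtype.ext (by simp [mul_assoc]), map_mul, map_inv, e1, e2, inv_mul_cancel]
  -- the quotient Sylow subgroup is dihedral
  haveI hCcyc : IsCyclic C := by
    have hcomm : ∀ a b : C, a * b = b * a := by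
      rintro ⟨_, a, ha, rfl⟩ ⟨_, b, hb, rfl⟩
      exact Subtype.ext (Subtype.ext
        ((hUab a (mem_subgroupOf.1 ha) b (mem_subgroupOf.1 hb)).map π).eq)
    letI : CommGroup C := { (inferInstance : Group C) with mul_comm := hcomm }
    refine CfsgLib.PGroup39.isCyclic_of_omega_le (p := 2) (T.2.to_subgroup C) ?_
    refine le_trans (Nat.card_le_card_of_injective
      (fun x => decide (x = 1)) fun x y e => ?_) (le_of_eq (by simp : Nat.card Bool = 2))
    simp only [decide_eq_decide] at e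
    by_cases hx : x = 1
    · rw [hx, e.1 hx]
    · have hy : y ≠ 1 := fun h' => hx (e.2 h')
      obtain ⟨⟨_, a, ha, rfl⟩, hxk⟩ := x
      obtain ⟨⟨_, b, hb, rfl⟩, hyk⟩ := y
      have sq : ∀ (w : (S : Subgroup G)), (φ w) ^ 2 = 1 → (w : G) * w ∈ center G := fun w hw =>
        (QuotientGroup.eq_one_iff _).1 (by
          rw [← pow_two, QuotientGroup.mk_pow]; exact congrArg Subtype.val hw)
      refine Subtype.ext (Subtype.ext (Subtype.ext (QuotientGroup.eq.2
        (key a (mem_subgroupOf.1 ha) b (mem_subgroupOf.1 hb)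
          (sq a (congrArg Subtype.val hxk)) (sq b (congrArg Subtype.val hyk))
          (fun hc => hx (Subtype.ext (Subtype.ext (Subtype.ext ((QuotientGroup.eq_one_iff _).2 hc)))))
          (fun hc => hy (Subtype.ext (Subtype.ext (Subtype.ext
            ((QuotientGroup.eq_one_iff _).2 hc)))))))))
  have hC2 : 2 ≤ Nat.card C := by
    obtain ⟨x, hx, hx2⟩ := hbig
    haveI : Nontrivial C := ⟨⟨1, ⟨φ ⟨x, hUS hx⟩, (hmemC x (hUS hx)).2 hx⟩, fun e => hx2 (by
      have e' : ((x : G) : G ⧸ center G) = 1 := (congrArg (fun w : C => ((w : (T : Subgroup (G ⧸ center G))) : G ⧸ center G)) e).symm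
      exact mul_mem ((QuotientGroup.eq_one_iff x).1 e') ((QuotientGroup.eq_one_iff x).1 e'))⟩⟩
    exact Finite.one_lt_card
  have hdih := CfsgLib.PSL2.nonempty_mulEquiv_dihedral C hCi fun q hq => by
    obtain ⟨⟨s, hs⟩, rfl⟩ := hφ q
    exact Subtype.ext ((QuotientGroup.eq_one_iff (s * s)).2
      (hout s hs fun hsU => hq ((hmemC s hs).2 hsU)).1)
  rcases shape_of_dihedral hGW T hC2 hdih with hs | ⟨⟨e⟩⟩
  · exact hs
  exfalso
  refine alt_seven_false h e fun x y hx2 hy2 hxc hyc hxy _ hcomm => ?_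
  -- replace by 2-elements and move into `S`
  obtain ⟨i, m, hm, hi⟩ := exists_two_lift (R := center G)
    (x := (x : G ⧸ center G)) ((QuotientGroup.eq_one_iff (x * x)).2 hx2) x rfl
  obtain ⟨j, m', hm', hj⟩ := exists_two_lift (R := center G)
    (x := (y : G ⧸ center G)) ((QuotientGroup.eq_one_iff (y * y)).2 hy2) y rfl
  have hp : ∀ (w : G) (k : ℕ), w ^ 2 ^ k = 1 → IsPGroup 2 (zpowers w) := by
    rintro w k hk ⟨v, hv⟩
    obtain ⟨n, rfl⟩ := mem_zpowers_iff.1 hv
    refine ⟨k, Subtype.ext ?_⟩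
    show (w ^ n) ^ 2 ^ k = 1
    rw [← zpow_natCast, ← zpow_mul, mul_comm, zpow_mul, zpow_natCast, hk, one_zpow]
  have hc : Commute (x ^ i) (y ^ j) := hcomm.pow_pow i j
  obtain ⟨P, hP⟩ := ((hp _ _ hm).to_sup_of_normal_left' (hp _ _ hm') (zpowers_le.2
    (mem_normalizer_iff.2 fun w => by
      have hcw : ∀ v ∈ zpowers (x ^ i), Commute (y ^ j) v := fun v hv => by
        obtain ⟨n, rfl⟩ := mem_zpowers_iff.1 hv
        exact hc.symm.zpow_right n
      refine ⟨fun hw => by rwa [(hcw w hw).eq, mul_inv_cancel_right], fun hw => ?_⟩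
      have e : y ^ j * w * (y ^ j)⁻¹ = w := by
        have h1 := (hcw _ hw).eq
        rw [inv_mul_cancel_right] at h1
        exact mul_left_cancel h1
      rwa [e] at hw))).exists_le_sylow
  obtain ⟨k, hk⟩ := MulAction.exists_smul_eq G P S
  set a := k * x ^ i * k⁻¹ with had
  set b := k * y ^ j * k⁻¹ with hbd
  have haS : a ∈ (S : Subgroup G) := by
    rw [← hk, Sylow.coe_subgroup_smul]; exact ⟨x ^ i, hP (mem_sup_left (mem_zpowers _)), rfl⟩
  have hbS : b ∈ (S : Subgroup G) := by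
    rw [← hk, Sylow.coe_subgroup_smul]; exact ⟨y ^ j, hP (mem_sup_right (mem_zpowers _)), rfl⟩
  have hab : Commute a b := by
    have := hc.map (MulAut.conj k).toMonoidHom
    exact this
  have him : ∀ (w v : G), ((w : G) : G ⧸ center G) = v → (k * w * k⁻¹ ∈ center G ↔ v ∈ center G) :=
    fun w v hwv => by
    rw [← QuotientGroup.eq_one_iff, ← QuotientGroup.eq_one_iff, ← hwv, QuotientGroup.mk_mul,
      QuotientGroup.mk_mul, QuotientGroup.mk_inv, conj_eq_one_iff]
  have hab' : a⁻¹ * b ∉ center G := fun hc' => hxy ((him ((x ^ i)⁻¹ * y ^ j) _ (by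
    rw [QuotientGroup.mk_mul, QuotientGroup.mk_inv, hi, hj]
    simp)).1 (by rwa [show k * ((x ^ i)⁻¹ * y ^ j) * k⁻¹ = a⁻¹ * b by rw [had, hbd]; group]))
  have hac : a ∉ center G := fun h' => hxc ((him _ x hi).1 h')
  have hbc : b ∉ center G := fun h' => hyc ((him _ y hj).1 h')
  have sqmem : ∀ (w v : G), ((w : G) : G ⧸ center G) = v → v * v ∈ center G →
      k * w * k⁻¹ * (k * w * k⁻¹) ∈ center G := fun w v hwv hv => by
    rw [show k * w * k⁻¹ * (k * w * k⁻¹) = k * (w * w) * k⁻¹ by group]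
    refine (inferInstance : (center G).Normal).conj_mem _ ?_ k
    rwa [← QuotientGroup.eq_one_iff, QuotientGroup.mk_mul, hwv, ← QuotientGroup.mk_mul,
      QuotientGroup.eq_one_iff]
  by_cases haU : a ∈ U <;> by_cases hbU : b ∈ U
  · exact hab' (key a haU b hbU (sqmem _ x hi hx2) (sqmem _ y hj hy2) hac hbc)
  · exact hac (((hout b hbS hbU).2 a haU).1 hab.symm)
  · exact hbc (((hout a haS haU).2 b hbU).1 hab)
  · refine hab' (((hout a haS haU).2 _ (hidx _ (inv_mem haS) b hbS
      (fun e => haU (by simpa using inv_mem e)) hbU)).1 ?_)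
    exact ((Commute.refl a).inv_right).mul_right hab

/-- The nonabelian Sylow case. -/
theorem shape_of_nonabelian_sylow (hGW : DihedralClassification.{u}) (h : PCA G) (S : Sylow 2 G)
    (hna : ∃ a ∈ (S : Subgroup G), ∃ b ∈ (S : Subgroup G), ¬ Commute a b) : Shape G := by
  have hcen : ∀ s : (S : Subgroup G), s ∈ center (S : Subgroup G) ↔ (s : G) ∈ center G := by
    intro s
    refine ⟨fun hs => mem_center_of_central_sylow h S hna s.2 fun w hw =>
      (congrArg Subtype.val (mem_center_iff.1 hs ⟨w, hw⟩) : w * (s : G) = (s : G) * w).symm,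
      fun hs => mem_center_iff.2 fun w => Subtype.ext (mem_center_iff.1 hs w)⟩
  rcases two_group_dichotomy S.2 (h _ (two_group_ne_top S.2)) with hsq | hU
  · exact shape_of_squares hGW h S hna fun s hs => (hcen (⟨s, hs⟩ * ⟨s, hs⟩)).1 (hsq _)
  obtain ⟨U, hZU, hU2, hUab, ⟨x, hxU, hx2⟩, hout⟩ := hU
  have hmem : ∀ s : (S : Subgroup G), (s : G) ∈ U.map (S : Subgroup G).subtype ↔ s ∈ U := fun s =>
    mem_map_iff_mem (S : Subgroup G).subtype_injective
  refine shape_of_index_two hGW h S (U := U.map (S : Subgroup G).subtype) (map_subtype_le _) ?_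
    (fun s hs hc => (hmem ⟨s, hs⟩).2 (hZU ((hcen _).2 hc))) ?_
    ⟨x, (hmem x).2 hxU, fun hc => hx2 ((hcen (x * x)).2 hc)⟩ fun s hs hsU => ?_
  · rw [relIndex, subgroupOf, comap_map_eq_self_of_injective (S : Subgroup G).subtype_injective]
    exact hU2
  · rintro _ ⟨a, ha, rfl⟩ _ ⟨b, hb, rfl⟩
    exact (hUab a ha b hb).map _
  · obtain ⟨h1, h2⟩ := hout ⟨s, hs⟩ fun e => hsU ((hmem ⟨s, hs⟩).2 e)
    refine ⟨(hcen _).1 h1, ?_⟩
    rintro _ ⟨u, hu, rfl⟩
    exact ⟨fun hc => (hcen u).1 ((h2 u hu).1 (Subtype.ext hc.eq)), (hcen _).1 (h2 u hu).2⟩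

end CfsgLib.MinNonCA
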