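import Cfsg.Agent.Lib.MinNonCA.Basic
import Cfsg.Agent.Lib.GWCons.RankOneCover
import Cfsg.Agent.Lib.CoreKill.Applications

/-!
The shape `G/Z(G) ≅ PSL₂(F)` and its derivation from dihedral Sylow 2-subgroups.
-/

set_option autoImplicit false
set_option linter.style.haveILetI false

namespace CfsgLib.MinNonCA

open Subgroup
open CfsgLib.GWCons.RankOneCover (DihedralClassification)

universe u

/-- `G/Z(G)` is `PSL₂(F)` with `|F| ≥ 4`. -/
def Shape (G : Type u) [Group G] : Prop :=
  ∃ (F : Type) (_ : Field F) (_ : Fintype F), 4 ≤ Fintype.card F ∧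
    Nonempty (G ⧸ center G ≃* Matrix.ProjectiveSpecialLinearGroup (Fin 2) F)

variable {G : Type u} [Group G] [Finite G]

/-- The 2-part of the centre lies in every Sylow 2-subgroup. -/
theorem mem_sylow_of_central (S : Sylow 2 G) {z : G} (hz : z ∈ center G)
    (h2 : ∃ k, z ^ 2 ^ k = 1) : z ∈ (S : Subgroup G) := by
  have hzp : IsPGroup 2 (zpowers z) := by
    obtain ⟨k, hk⟩ := h2
    rintro ⟨x, hx⟩
    obtain ⟨n, rfl⟩ := mem_zpowers_iff.1 hx
    refine ⟨k, Subtype.ext ?_⟩
    show (z ^ n) ^ 2 ^ k = 1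
    rw [← zpow_natCast, ← zpow_mul, mul_comm, zpow_mul, zpow_natCast, hk, one_zpow]
  haveI : (zpowers z).Normal := ⟨fun x hx g => by
    obtain ⟨n, rfl⟩ := mem_zpowers_iff.1 hx
    rw [mem_center_iff.1 (zpow_mem hz n) g, mul_inv_cancel_right]
    exact zpow_mem (mem_zpowers z) n⟩
  exact zpowers_le.1 (by
    rw [← S.3 (IsPGroup.to_sup_of_normal_right S.2 hzp) le_sup_left]
    exact le_sup_right)

variable [Group.IsPerfect G] [Nontrivial G]

theorem center_ne_top : center G ≠ ⊤ := fun h => Group.IsPerfect.not_isSolvable G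
  (Group.isSolvable_of_comm fun a b => (mem_center_iff.1 (h ▸ mem_top a) b).symm)

instance : Group.IsPerfect (G ⧸ center G) :=
  Group.IsPerfect.ofSurjective (QuotientGroup.mk'_surjective _)

theorem nontrivial_quotient : Nontrivial (G ⧸ center G) :=
  QuotientGroup.nontrivial_iff.2 center_ne_top

theorem not_isSolvable_quotient : ¬ Group.IsSolvable (G ⧸ center G) := by
  haveI := nontrivial_quotient (G := G)
  exact Group.IsPerfect.not_isSolvable _

theorem exists_involution_quotient : ∃ t : G ⧸ center G, orderOf t = 2 := by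
  haveI : Fact (Nat.Prime 2) := ⟨Nat.prime_two⟩
  refine exists_prime_orderOf_dvd_card' 2 ?_
  by_contra h2
  exact not_isSolvable_quotient (G := G) (CfsgLib.PF.oddSolvable _ (Nat.odd_iff.2 (by omega)))

/-- Dihedral Sylow 2-subgroups of the central quotient: `PSL₂` or `A₇`. -/
theorem shape_of_dihedral (hGW : DihedralClassification.{u}) [IsSimpleGroup (G ⧸ center G)]
    (T : Sylow 2 (G ⧸ center G)) {n : ℕ} (hn : 2 ≤ n)
    (e : Nonempty ((T : Subgroup (G ⧸ center G)) ≃* DihedralGroup n)) :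
    Shape G ∨ Nonempty (G ⧸ center G ≃* alternatingGroup (Fin 7)) := by
  obtain ⟨t, ht⟩ := exists_involution_quotient (G := G)
  have hO : Cfsg.oddCore (G ⧸ center G) = ⊥ := CfsgLib.CoreKill.oddCore_eq_bot_of_simple ht
  let e0 : (G ⧸ center G) ⧸ Cfsg.oddCore (G ⧸ center G) ≃* G ⧸ center G :=
    (QuotientGroup.quotientMulEquivOfEq hO).trans QuotientGroup.quotientBot
  rcases hGW (G ⧸ center G) T n hn e with ⟨F, hF, hFt, -, h3, ⟨f⟩⟩ | h7
  swap
  · exact Or.inr ⟨e0.symm.trans (Classical.choice h7)⟩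
  exact Or.inl ⟨F, hF, hFt, h3, ⟨e0.symm.trans f⟩⟩

end CfsgLib.MinNonCA
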